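import Groth.Agent.Sga3.H828.MTRep

/-!
# Descent of the representability of the functor of maximal tori

* `restrIso`: `restr q (mtF G) ≅ mtF (bc q G)`.
* `representsMaxTori_bc`, `nonempty_iso_bc`: base change, and uniqueness, of the representing object.
* `exists_representsMaxTori_of_fpqcCover`: **descent of representability along an fpqc covering**.
-/

set_option autoImplicit false
set_option backward.isDefEq.respectTransparency false
universe u
open CategoryTheory MonoidalCategory CartesianMonoidalCategory MonObj GrpObj AlgebraicGeometry Limits Opposite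

namespace Groth.Agent.Sga3.H828.MTMain

open Groth.Agent.Sga3B Groth.Agent.Sga3B.MT Groth.Agent.Sga3B.RedIso
  Groth.Agent.Picfga.HilbPull Groth.Agent.Picfga.OverRep Groth.Agent.Desc.SecPresheaf
  Groth.Agent.Desc.SecFunctor Groth.Agent.Desc.SecDescent Groth.Agent.Desc.ZarGlue
  Groth.Agent.Sga3.H828.MTIdeal Groth.Agent.Sga3.H828.MTDesc Groth.Agent.Sga3.H828.MTFun
  Groth.Agent.Sga3.H828.MTRep

variable {S U : Scheme.{u}} (q : U ⟶ S)

section w

variable (G : Over S)

/-- the isomorphism `(G ×_S U) ×_U X ≅ G ×_S X` -/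
noncomputable def wX (X : Over U) :
    PicF.XT (Red.bc q G).hom X ⟶ PicF.XT G.hom ((Over.map q).obj X) :=
  ((Over.pullbackComp X.hom q).inv.app G).left

/-- its inverse -/
noncomputable def wX' (X : Over U) :
    PicF.XT G.hom ((Over.map q).obj X) ⟶ PicF.XT (Red.bc q G).hom X :=
  ((Over.pullbackComp X.hom q).hom.app G).left

@[reassoc (attr := simp)]
lemma wX_wX' (X : Over U) : wX q G X ≫ wX' q G X = 𝟙 _ :=
  congrArg (fun z => z.left) ((Over.pullbackComp X.hom q).inv_hom_id_app G)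

@[reassoc (attr := simp)]
lemma wX'_wX (X : Over U) : wX' q G X ≫ wX q G X = 𝟙 _ :=
  congrArg (fun z => z.left) ((Over.pullbackComp X.hom q).hom_inv_id_app G)

lemma wX_fst (X : Over U) : wX q G X ≫ pullback.fst G.hom (X.hom ≫ q) =
    pullback.fst (pullback.snd G.hom q) X.hom ≫ pullback.fst G.hom q :=
  pullbackComp_inv_fst X.hom G

lemma wX_snd (X : Over U) : wX q G X ≫ pullback.snd G.hom (X.hom ≫ q) =
    pullback.snd (pullback.snd G.hom q) X.hom :=
  Over.w ((Over.pullbackComp X.hom q).inv.app G)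

lemma wX_naturality {X' X : Over U} (g : X' ⟶ X) :
    wX q G X' ≫ PicF.XTmap G.hom ((Over.map q).map g) = PicF.XTmap (Red.bc q G).hom g ≫ wX q G X := by
  apply pullback.hom_ext
  · have h1 := XTmap_fst G.hom ((Over.map q).map g)
    have h2 := XTmap_fst (Red.bc q G).hom g
    have h3 := wX_fst q G X
    have h4 := wX_fst q G X'
    rw [Category.assoc, Category.assoc]
    refine (congrArg (wX q G X' ≫ ·) h1).trans ?_
    refine h4.trans ?_
    refine Eq.trans ?_ (congrArg (PicF.XTmap (Red.bc q G).hom g ≫ ·) h3).symm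
    refine Eq.trans ?_ (Category.assoc _ _ _)
    exact (congrArg (· ≫ pullback.fst G.hom q) h2).symm
  · have h1 := XTmap_snd G.hom ((Over.map q).map g)
    have h2 := XTmap_snd (Red.bc q G).hom g
    have h3 := wX_snd q G X
    have h4 := wX_snd q G X'
    rw [Category.assoc, Category.assoc]
    refine (congrArg (wX q G X' ≫ ·) h1).trans ?_
    refine Eq.trans (Category.assoc _ _ _).symm ?_
    refine (congrArg (· ≫ g.left) h4).trans ?_
    exact (h2.symm).trans (congrArg (PicF.XTmap (Red.bc q G).hom g ≫ ·) h3).symm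

end w

variable {q} {G : Over S} [GrpObj G]

section fl

variable {X : Over U} {T : Over X.left} [GrpObj T]

/-- a subscheme of `(G ×_S U) ×_U X` as a subscheme of `G ×_S X` -/
noncomputable def fl (i : T ⟶ Red.bc X.hom (Red.bc q G)) : T ⟶ Red.bc ((Over.map q).obj X).hom G :=
  i ≫ (Over.pullbackComp X.hom q).inv.app G

/-- a subscheme of `G ×_S X` as a subscheme of `(G ×_S U) ×_U X` -/
noncomputable def unfl (i : T ⟶ Red.bc ((Over.map q).obj X).hom G) : T ⟶ Red.bc X.hom (Red.bc q G) :=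
  i ≫ (Over.pullbackComp X.hom q).hom.app G

lemma isMaximalTorus_fl {i : T ⟶ Red.bc X.hom (Red.bc q G)} (h : Red.IsMaximalTorus i) :
    Red.IsMaximalTorus (fl i) := by
  refine AlgBc.isMaximalTorus_of_arrow (Iso.refl _) (BcIso.bcCompIso X.hom q G).symm ?_ h
  rw [und_bcCompIso_symm]
  exact (Category.id_comp _).symm

lemma isMaximalTorus_unfl {i : T ⟶ Red.bc ((Over.map q).obj X).hom G} (h : Red.IsMaximalTorus i) :
    Red.IsMaximalTorus (unfl i) := by
  refine AlgBc.isMaximalTorus_of_arrow (Iso.refl _) (BcIso.bcCompIso X.hom q G) ?_ h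
  rw [BcNat.und_bcCompIso]
  exact (Category.id_comp _).symm

omit [GrpObj G] [GrpObj T] in
lemma isClosedImmersion_fl {i : T ⟶ Red.bc X.hom (Red.bc q G)} (h : IsClosedImmersion i.left) :
    IsClosedImmersion (fl i).left := by
  have : IsIso ((Over.pullbackComp X.hom q).inv.app G).left :=
    inferInstanceAs (IsIso ((Over.forget _).map ((Over.pullbackComp X.hom q).inv.app G)))
  rw [fl, Over.comp_left]
  infer_instance

omit [GrpObj G] [GrpObj T] in
lemma isClosedImmersion_unfl {i : T ⟶ Red.bc ((Over.map q).obj X).hom G}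
    (h : IsClosedImmersion i.left) : IsClosedImmersion (unfl i).left := by
  have : IsIso ((Over.pullbackComp X.hom q).hom.app G).left :=
    inferInstanceAs (IsIso ((Over.forget _).map ((Over.pullbackComp X.hom q).hom.app G)))
  rw [unfl, Over.comp_left]
  infer_instance

omit [GrpObj G] [GrpObj T] in
lemma unfl_fl (i : T ⟶ Red.bc X.hom (Red.bc q G)) : unfl (fl i) = i := by
  have h3 : (Over.pullbackComp X.hom q).inv.app G ≫ (Over.pullbackComp X.hom q).hom.app G = 𝟙 _ :=
    (Over.pullbackComp X.hom q).inv_hom_id_app G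
  rw [unfl, fl, Category.assoc, h3]
  exact Category.comp_id _

omit [GrpObj G] [GrpObj T] in
lemma fl_unfl (i : T ⟶ Red.bc ((Over.map q).obj X).hom G) : fl (unfl i) = i := by
  have h3 : (Over.pullbackComp X.hom q).hom.app G ≫ (Over.pullbackComp X.hom q).inv.app G = 𝟙 _ :=
    (Over.pullbackComp X.hom q).hom_inv_id_app G
  rw [unfl, fl, Category.assoc, h3]
  exact Category.comp_id _

omit [GrpObj G] in
lemma isIso_wX : IsIso (wX q G X) := ⟨wX' q G X, wX_wX' q G X, wX'_wX q G X⟩

omit [GrpObj G] in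
lemma isIso_wX' : IsIso (wX' q G X) := ⟨wX q G X, wX'_wX q G X, wX_wX' q G X⟩

omit [GrpObj G] [GrpObj T] in
lemma ker_unfl (i : T ⟶ Red.bc ((Over.map q).obj X).hom G) (h : IsClosedImmersion i.left) :
    (unfl i).left.ker = i.left.ker.comap (wX q G X) := by
  have hw : IsIso (wX q G X) := isIso_wX
  refine (ker_comap_of_isPullback (g' := 𝟙 _) ?_).symm
  refine IsPullback.of_horiz_isIso ⟨?_⟩
  have e : (unfl i).left = i.left ≫ wX' q G X := rfl
  rw [e, Category.assoc, wX'_wX, Category.id_comp]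
  exact (Category.comp_id _).symm

omit [GrpObj G] [GrpObj T] in
lemma ker_fl (i : T ⟶ Red.bc X.hom (Red.bc q G)) (h : IsClosedImmersion i.left) :
    (fl i).left.ker = i.left.ker.comap (wX' q G X) := by
  have hw : IsIso (wX' q G X) := isIso_wX'
  refine (ker_comap_of_isPullback (g' := 𝟙 _) ?_).symm
  refine IsPullback.of_horiz_isIso ⟨?_⟩
  have e : (fl i).left = i.left ≫ wX q G X := rfl
  rw [e, Category.assoc, wX_wX', Category.id_comp]
  exact (Category.comp_id _).symm

lemma isMT_unfl {I : (PicF.XT G.hom ((Over.map q).obj X)).IdealSheafData}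
    (h : IsMT G ((Over.map q).obj X) I) : IsMT (Red.bc q G) X (I.comap (wX q G X)) := by
  obtain ⟨H, gH, i, hi, hcl, rfl⟩ := h
  let T : Over X.left := H
  let gT : GrpObj T := gH
  let i' : T ⟶ Red.bc ((Over.map q).obj X).hom G := i
  have h1 : Red.IsMaximalTorus (unfl (q := q) (X := X) i') := isMaximalTorus_unfl hi
  have h2 : IsClosedImmersion (unfl (q := q) (X := X) i').left := isClosedImmersion_unfl hcl
  have h3 := ker_unfl (q := q) (X := X) i' hcl
  exact ⟨T, gT, unfl (q := q) (X := X) i', h1, h2, h3⟩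

lemma isMT_fl {I : (PicF.XT (Red.bc q G).hom X).IdealSheafData}
    (h : IsMT (Red.bc q G) X I) : IsMT G ((Over.map q).obj X) (I.comap (wX' q G X)) := by
  obtain ⟨H, gH, i, hi, hcl, rfl⟩ := h
  have h1 : Red.IsMaximalTorus (fl (q := q) (X := X) i) := isMaximalTorus_fl hi
  have h2 : IsClosedImmersion (fl (q := q) (X := X) i).left := isClosedImmersion_fl hcl
  have h3 := ker_fl (q := q) (X := X) i hcl
  exact ⟨H, gH, fl (q := q) (X := X) i, h1, h2, h3⟩

end fl

variable (q) in
/-- The hypotheses are stable under base change. -/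
theorem Hyp.pull (hG : Hyp G) : Hyp (Red.bc q G) where
  closed {S'} f T _ i hi := by
    have h1 := hG.closed (f ≫ q) T (fl (X := Over.mk f) i) (isMaximalTorus_fl (X := Over.mk f) hi)
    have h2 := isClosedImmersion_unfl (X := Over.mk f) h1
    rwa [unfl_fl] at h2
  bc {S' S''} f p T _ i hi := by
    have h1 := hG.bc (f ≫ q) p T (fl (X := Over.mk f) i) (isMaximalTorus_fl (X := Over.mk f) hi)
    refine AlgBc.isMaximalTorus_of_arrow (Iso.refl _)
      (BcIso.bcMapIso p (BcIso.bcCompIso f q G)) ?_ h1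
    have h3 : (Over.pullbackComp f q).inv.app G ≫ (Over.pullbackComp f q).hom.app G = 𝟙 _ :=
      (Over.pullbackComp f q).inv_hom_id_app G
    rw [BcNat.und_bcMapIso, BcNat.und_bcCompIso, ← Functor.map_comp]
    refine Eq.trans ?_ (Category.id_comp _).symm
    congr 1
    refine (Category.assoc _ _ _).trans ?_
    exact (congrArg (i ≫ ·) h3).trans (Category.comp_id _)

variable (q) in
/-- The functor of maximal tori is compatible with base change. -/
noncomputable def restrIso (hG : Hyp G) : restr q (mtF G hG) ≅ mtF (Red.bc q G) (Hyp.pull q hG) :=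
  NatIso.ofComponents (fun X =>
    (Equiv.toIso
      { toFun := fun x => (⟨x.1.comap (wX q G X.unop), isMT_unfl x.2⟩ :
          (mtF (Red.bc q G) (Hyp.pull q hG)).obj X)
        invFun := fun x => (⟨x.1.comap (wX' q G X.unop), isMT_fl x.2⟩ :
          (mtF G hG).obj (op ((Over.map q).obj X.unop)))
        left_inv := fun x => Subtype.ext (by
          change (x.1.comap (wX q G X.unop)).comap (wX' q G X.unop) = x.1
          rw [← Scheme.IdealSheafData.comap_comp, wX'_wX, Scheme.IdealSheafData.comap_id])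
        right_inv := fun x => Subtype.ext (by
          change (x.1.comap (wX' q G X.unop)).comap (wX q G X.unop) = x.1
          rw [← Scheme.IdealSheafData.comap_comp, wX_wX', Scheme.IdealSheafData.comap_id]) }))
    (fun {X Y} g => by
      refine ConcreteCategory.hom_ext _ _ fun x => Subtype.ext ?_
      change (x.1.comap (PicF.XTmap G.hom ((Over.map q).map g.unop))).comap (wX q G Y.unop) =
        (x.1.comap (wX q G X.unop)).comap (PicF.XTmap (Red.bc q G).hom g.unop)
      rw [← Scheme.IdealSheafData.comap_comp, ← Scheme.IdealSheafData.comap_comp, wX_naturality])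

/-- Base change of the scheme of maximal tori. -/
theorem representsMaxTori_bc (hG : Hyp G) {𝒯 : Over S} {Tu : Over 𝒯.left} [GrpObj Tu]
    {iu : Tu ⟶ Red.bc 𝒯.hom G} (h : SGA3x.RepresentsMaxTori G 𝒯 Tu iu) :
    ∃ (Tu' : Over (Red.bc q 𝒯).left) (_ : GrpObj Tu')
      (iu' : Tu' ⟶ Red.bc (Red.bc q 𝒯).hom (Red.bc q G)),
      SGA3x.RepresentsMaxTori (Red.bc q G) (Red.bc q 𝒯) Tu' iu' :=
  exists_representsMaxTori (Hyp.pull q hG)
    ((pullRep q (representableBy hG h)).ofIso (restrIso q hG))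

/-- The scheme of maximal tori of the base change is the base change of the scheme of maximal tori. -/
theorem nonempty_iso_bc (hG : Hyp G) {𝒯 : Over S} {Tu : Over 𝒯.left} [GrpObj Tu]
    {iu : Tu ⟶ Red.bc 𝒯.hom G} (h : SGA3x.RepresentsMaxTori G 𝒯 Tu iu)
    {𝒯' : Over U} {Tu' : Over 𝒯'.left} [GrpObj Tu'] {iu' : Tu' ⟶ Red.bc 𝒯'.hom (Red.bc q G)}
    (h' : SGA3x.RepresentsMaxTori (Red.bc q G) 𝒯' Tu' iu') : Nonempty (Red.bc q 𝒯 ≅ 𝒯') :=
  ⟨((pullRep q (representableBy hG h)).ofIso (restrIso q hG)).uniqueUpToIso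
    (representableBy (Hyp.pull q hG) h')⟩

/-- The representing object is unique. -/
theorem nonempty_iso (hG : Hyp G) {𝒯 : Over S} {Tu : Over 𝒯.left} [GrpObj Tu]
    {iu : Tu ⟶ Red.bc 𝒯.hom G} (h : SGA3x.RepresentsMaxTori G 𝒯 Tu iu)
    {𝒯' : Over S} {Tu' : Over 𝒯'.left} [GrpObj Tu'] {iu' : Tu' ⟶ Red.bc 𝒯'.hom G}
    (h' : SGA3x.RepresentsMaxTori G 𝒯' Tu' iu') : Nonempty (𝒯 ≅ 𝒯') :=
  ⟨(representableBy hG h).uniqueUpToIso (representableBy hG h')⟩

/-- **Descent of the representability of the functor of maximal tori along an fpqc covering.** -/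
theorem exists_representsMaxTori_of_fpqcCover (hG : Hyp G) (P : MorphismProperty Scheme.{u})
    [IsZariskiLocalAtTarget P] [P.IsStableUnderBaseChange]
    [P.DescendsAlong (@Surjective ⊓ @Flat ⊓ @QuasiCompact)]
    {S' : Scheme.{u}} (f : S' ⟶ S) [Flat f] [Surjective f]
    (hc : ∀ V : S.Opens, IsAffineOpen V → ∃ W : S'.Opens, IsCompact (W : Set S') ∧
      f.base '' (W : Set S') = (V : Set S))
    (H : ∀ s' : S', ∃ U : S'.Opens, s' ∈ U ∧ ∃ (𝒯 : Over U.toScheme) (Tu : Over 𝒯.left)
      (_ : GrpObj Tu) (iu : Tu ⟶ Red.bc 𝒯.hom (Red.bc (U.ι ≫ f) G)),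
      SGA3x.RepresentsMaxTori (Red.bc (U.ι ≫ f) G) 𝒯 Tu iu ∧ P 𝒯.hom ∧ Mor2.IsQuasiAffine 𝒯.hom) :
    ∃ (𝒯 : Over S) (Tu : Over 𝒯.left) (_ : GrpObj Tu) (iu : Tu ⟶ Red.bc 𝒯.hom G),
      SGA3x.RepresentsMaxTori G 𝒯 Tu iu ∧ P 𝒯.hom := by
  obtain ⟨𝒯, hP, ⟨e⟩⟩ := FpqcRep.exists_rep_of_fpqcCover (mtF G hG) (isZarSheaf_mtF hG)
    (fun g h1 h2 h3 => isDesc_mtF hG g) P f hc fun s' => by
      obtain ⟨V, hV, 𝒯, Tu, _, iu, h, hP, hQ⟩ := H s'
      exact ⟨V, hV, 𝒯, hP, hQ, ⟨(representableBy (Hyp.pull _ hG) h).ofIso (restrIso _ hG).symm⟩⟩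
  obtain ⟨Tu, gTu, iu, h⟩ := exists_representsMaxTori hG e
  exact ⟨𝒯, Tu, gTu, iu, h, hP⟩

end Groth.Agent.Sga3.H828.MTMain
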