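import Groth.Agent.Sga3.H828.MTHyp
import Groth.Agent.Sga3.H798.TorusClosed

/-!
# The hypotheses `MTFun.Hyp` for separated groups of finite type over any base
-/

set_option autoImplicit false
universe u
open CategoryTheory MonoidalCategory CartesianMonoidalCategory MonObj GrpObj AlgebraicGeometry Limits

namespace Groth.Agent.Sga3.H828.MTHypSep

open Groth.Agent.Sga3.H828.MTFun

/-- `Hyp G` for `G` separated and of finite type over any base. -/
theorem hyp_of_separated {S : Scheme.{u}} (G : Over S) [GrpObj G] [IsSeparated G.hom]
    [LocallyOfFiniteType G.hom] [QuasiCompact G.hom] : Hyp G :=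
  MTHyp.hyp_of_closed G fun f T _ i hi => by
    have h1 : IsSeparated (Red.bc f G).hom :=
      inferInstanceAs (IsSeparated (pullback.snd G.hom f))
    have h1' : LocallyOfFiniteType (Red.bc f G).hom :=
      inferInstanceAs (LocallyOfFiniteType (pullback.snd G.hom f))
    have h1'' : QuasiCompact (Red.bc f G).hom :=
      inferInstanceAs (QuasiCompact (pullback.snd G.hom f))
    have h2 : IsMonHom i := hi.1
    have h3 : Mono i := hi.2.1
    exact Groth.Agent.Sga3.H798.TorusClosed.isClosedImmersion_of_torus i hi.2.2.1

end Groth.Agent.Sga3.H828.MTHypSep
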