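import Groth.Agent.Sga3B.Pts

/-!
# Subgroup objects from representable subgroup functors
-/

set_option autoImplicit false
universe v u
open CategoryTheory MonoidalCategory CartesianMonoidalCategory MonObj GrpObj Opposite

namespace Groth.Agent.Sga3.H828.SubgrpObj

open Groth.Agent.Sga3B

variable {C : Type u} [Category.{v} C] [CartesianMonoidalCategory C] {H : C} [GrpObj H]
  (P : ∀ X : C, Subgroup (X ⟶ H)) (hP : ∀ {X Y : C} (f : Y ⟶ X) (x : X ⟶ H), x ∈ P X → f ≫ x ∈ P Y)

/-- The presheaf of groups attached to a family of subgroups of the groups of points. -/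
def functor : Cᵒᵖ ⥤ GrpCat.{v} where
  obj X := GrpCat.of (P X.unop)
  map {X Y} f := GrpCat.ofHom
    { toFun := fun x => ⟨f.unop ≫ x.1, hP f.unop x.1 x.2⟩
      map_one' := Subtype.ext (MonObj.comp_one _)
      map_mul' := fun x y => Subtype.ext (MonObj.comp_mul _ _ _) }
  map_id X := by
    ext x
    exact Category.id_comp _
  map_comp f g := by
    ext x
    exact Category.assoc _ _ _

include hP in
/-- A monomorphism representing a subgroup functor is the inclusion of a subgroup object. -/
theorem exists_grpObj {T : C} (i : T ⟶ H) [Mono i]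
    (h : ∀ (X : C) (x : X ⟶ H), x ∈ P X ↔ ∃ t : X ⟶ T, t ≫ i = x) :
    ∃ _ : GrpObj T, IsMonHom i := by
  let r : (functor P hP ⋙ forget _).RepresentableBy T :=
    { homEquiv := fun {X} => Equiv.ofBijective
        (fun t : X ⟶ T => (⟨t ≫ i, (h X _).2 ⟨t, rfl⟩⟩ : P X))
        ⟨fun t t' htt => (cancel_mono i).1 (congrArg Subtype.val htt), fun x => by
          obtain ⟨t, ht⟩ := (h X x.1).1 x.2
          exact ⟨t, Subtype.ext ht⟩⟩
      homEquiv_comp := fun {X X'} f g => Subtype.ext (Category.assoc _ _ _) }
  let _ : GrpObj T := GrpObj.ofRepresentableBy T (functor P hP) r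
  refine ⟨inferInstance, Pts.isMonHom_of_points _ fun X x y => ?_⟩
  have h1 := ((yonedaGrpObjIsoOfRepresentableBy T (functor P hP) r).hom.app (op X)).hom.map_mul x y
  exact congrArg Subtype.val h1

end Groth.Agent.Sga3.H828.SubgrpObj
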