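import Groth.Agent.Sga3.H828.TorRep
import Groth.Agent.Sga3.H828.SubgrpObj
import Groth.Prelude.Def_SGA3x

/-!
# The largest subtorus of a group of multiplicative type
-/

set_option autoImplicit false
set_option backward.isDefEq.respectTransparency false
set_option backward.isDefEq.respectTransparency.types false
universe v u
open CategoryTheory MonoidalCategory CartesianMonoidalCategory MonObj AlgebraicGeometry Limits Opposite

namespace Groth.Agent.Sga3.H828.TorMain

open Groth.Agent.Sga3B Groth.Agent.Sga3.H828.DiagChart Groth.Agent.Sga3.H828.TorFn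
  Groth.Agent.Sga3.H828.TorKey Groth.Agent.Sga3.H828.TorusPt Groth.Agent.Sga3.H828.TorRep
  Groth.Agent.Desc.SecFunctor Groth.Agent.Desc.SecPresheaf
  Groth.Agent.Desc.SecDescent Groth.Agent.Picfga.OverRep Groth.Agent.Desc.ZarGlue

variable {S : Scheme.{u}} (H : Over S) [GrpObj H]

/-- Representability of the functor over a scheme covered by charts. -/
theorem exists_rep_of_charts {W : Scheme.{u}} (q : W ⟶ S)
    (h : ∀ w : W, ∃ O : W.Opens, w ∈ O ∧ ∃ (M : Type) (_ : AddCommGroup M),
      Nonempty (Chart H (Over.mk (O.ι ≫ q)) M)) :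
    ∃ E : Over W, IsAffineHom E.hom ∧ Nonempty ((restr q (torF H)).RepresentableBy E) := by
  choose O hO M hM c using h
  have hz : IsZarSheaf (restr q (torF H)) := by
    intro T 𝒰 x hx
    let 𝒰' : Cov ((Over.map q).obj T) :=
      { «ι» := 𝒰.ι
        V := fun i => (Over.map q).obj (𝒰.V i)
        j := fun i => (Over.map q).map (𝒰.j i)
        isOpen := fun i => inferInstanceAs (IsOpenImmersion (𝒰.j i).left)
        covers := 𝒰.covers }
    refine isZarSheaf_torF H ((Over.map q).obj T) 𝒰' x ?_
    intro i k Z a b hab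
    let Z' : Over W := Over.mk (a.left ≫ (𝒰.V i).hom)
    have hab' : a.left ≫ (𝒰.j i).left = b.left ≫ (𝒰.j k).left := congrArg (fun f => f.left) hab
    have hZ : b.left ≫ (𝒰.V k).hom = a.left ≫ (𝒰.V i).hom := by
      rw [← Over.w (𝒰.j i), ← Over.w (𝒰.j k), ← Category.assoc, ← Category.assoc, hab']
    have h1 := hx i k Z' (Over.homMk a.left rfl) (Over.homMk b.left hZ) (by ext1; exact hab')
    let i₀ : Z ⟶ (Over.map q).obj Z' := Over.homMk (𝟙 _) (by
      change 𝟙 _ ≫ (a.left ≫ (𝒰.V i).hom) ≫ q = Z.hom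
      rw [Category.id_comp, Category.assoc]
      exact Over.w a)
    have e0 : a = i₀ ≫ (Over.map q).map (Over.homMk a.left rfl : Z' ⟶ 𝒰.V i) := by
      ext; simp [i₀]
    have e1 : b = i₀ ≫ (Over.map q).map (Over.homMk b.left hZ : Z' ⟶ 𝒰.V k) := by
      ext; simp [i₀]
    rw [e0, e1, op_comp, op_comp, (torF H).map_comp, (torF H).map_comp, ConcreteCategory.comp_apply,
      ConcreteCategory.comp_apply]
    exact congrArg _ h1
  have hr : ∀ w, Nonempty ((restr (O w).ι (restr q (torF H))).RepresentableBy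
      (Red.DS (O w).toScheme (TF (M w)))) := by
    intro w
    obtain ⟨cw⟩ := c w
    obtain ⟨r⟩ := exists_rep_chart (H := H) ((O w).ι ≫ q) cw
    exact ⟨r.ofIso (restrCompIso rfl (torF H)).symm⟩
  have hA : ∀ w, IsAffineHom (Red.DS (O w).toScheme (TF (M w))).hom := by
    intro w
    have : IsAffineHom (Red.diag (ULift.{u} ℤ) (TF (M w))).hom := by
      change IsAffineHom (Spec.map _)
      infer_instance
    exact MorphismProperty.pullback_snd (P := @IsAffineHom) _ _ this
  exact exists_rep_of_openCover_prop O (fun w => ⟨w, hO w⟩) _ (fun w => (hr w).some) hz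
    @IsAffineHom hA

/-- Representability of the functor, for `H` of multiplicative type and of finite type. -/
theorem exists_rep (hH : SGA3x.IsMultTypeFT H) :
    ∃ T : Over S, Nonempty ((torF H).RepresentableBy T) := by
  obtain ⟨S', f, _, _, hf, hc⟩ := hH
  have key : ∀ s : S, ∃ V : S.Opens, s ∈ V ∧ ∃ E : Over V.toScheme,
      Nonempty ((restr V.ι (torF H)).RepresentableBy E) := by
    intro s
    obtain ⟨V, hV, hsV⟩ : ∃ V : S.Opens, IsAffineOpen V ∧ s ∈ V := by
      obtain ⟨_, ⟨V, hV, rfl⟩, hsV, -⟩ :=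
        S.isBasis_affineOpens.exists_subset_of_mem_open (Set.mem_univ s) isOpen_univ
      exact ⟨V, hV, hsV⟩
    refine ⟨V, hsV, ?_⟩
    obtain ⟨W, hW, hWV⟩ := hf V hV
    have hle : W ≤ f ⁻¹ᵁ V := by
      intro w hw
      have : f.base w ∈ f.base '' (W : Set S') := ⟨w, hw, rfl⟩
      rw [hWV] at this
      exact this
    have : IsAffine V := hV
    have : CompactSpace W := isCompact_iff_compactSpace.mp hW
    let q : W.toScheme ⟶ V.toScheme := f.resLE V W hle
    have hq : q ≫ V.ι = W.ι ≫ f := f.resLE_comp_ι hle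
    have hflat : Flat q := inferInstance
    have hqc : QuasiCompact q := inferInstance
    have hsurj : Surjective q := by
      constructor
      rintro ⟨v, hv⟩
      have : v ∈ f.base '' (W : Set S') := by rw [hWV]; exact hv
      obtain ⟨w, hw, rfl⟩ := this
      refine ⟨⟨w, hw⟩, ?_⟩
      apply Subtype.ext
      simp [q]
    obtain ⟨E, hE, ⟨e⟩⟩ := exists_rep_of_charts H (q ≫ V.ι) (fun w => by
      obtain ⟨U, hU, M, _, -, ⟨i⟩⟩ := hc (W.ι w)
      refine ⟨W.ι ⁻¹ᵁ U, hU, M, inferInstance, ⟨(Chart.ofIso _ i).restrict (Over.homMk (W.ι ∣_ U) ?_)⟩⟩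
      change (W.ι ∣_ U) ≫ U.ι ≫ f = (W.ι ⁻¹ᵁ U).ι ≫ q ≫ V.ι
      rw [hq, ← Category.assoc, morphismRestrict_ι, Category.assoc])
    have hsh : IsPSheaf q (restr V.ι (torF H)) := by
      intro T₂
      apply IsDesc.restr
      have h1 : Flat ((Over.map V.ι).map (projT q T₂)).left := by
        change Flat (pullback.snd q T₂.hom)
        infer_instance
      have h2 : Surjective ((Over.map V.ι).map (projT q T₂)).left := by
        change Surjective (pullback.snd q T₂.hom)
        infer_instance
      have h3 : QuasiCompact ((Over.map V.ι).map (projT q T₂)).left := by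
        change QuasiCompact (pullback.snd q T₂.hom)
        infer_instance
      exact isDesc_torF H _
    have hE' : Mor2.IsQuasiAffine E.hom := by
      refine ⟨inferInstance, fun O hO => ?_⟩
      have : IsAffine (E.hom ⁻¹ᵁ O : Scheme.{u}) := hO.preimage E.hom
      infer_instance
    obtain ⟨U₀, hU₀, -⟩ := Groth.Agent.Desc.LocalRep.exists_rep_of_fpqc q hsh E hE'
      (e.ofIso (restrCompIso rfl (torF H)).symm)
    exact ⟨U₀, hU₀⟩
  choose V hV E hE using key
  obtain ⟨T, hT, -⟩ := exists_rep_of_openCover V (fun s => ⟨s, hV s⟩) E (fun s => (hE s).some)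
    (isZarSheaf_torF H)
  exact ⟨T, hT⟩

section chartT

variable {H} {T : Over S} [GrpObj T] (i : T ⟶ H) [IsMonHom i] [Mono i]
  (hi : ∀ (X : Over S) (x : X ⟶ H), IsTorPt x ↔ ∃ t : X ⟶ T, t ≫ i = x) {B : Over S} {M : Type}
  [AddCommGroup M] (c : Chart H B M)

omit [GrpObj T] [IsMonHom i] [Mono i] in
include hi in
lemma exists_chr_T {X : Over S} (t : X ⟶ B) (y : X ⟶ T) :
    ∃ χ : Multiplicative (TF M) →* Γ(X.left, ⊤), ptOf c t χ = y ≫ i :=
  exists_ptOf c t ((hi X _).2 ⟨y, rfl⟩)

omit [GrpObj T] [IsMonHom i] [Mono i] in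
include hi in
lemma exists_pt_T {X : Over S} (t : X ⟶ B) (χ : Multiplicative (TF M) →* Γ(X.left, ⊤)) :
    ∃ y : X ⟶ T, y ≫ i = ptOf c t χ :=
  (hi X _).1 (isTorPt_ptOf c t χ)

/-- The chart of the subgroup of points killed by multiplicative functions of finite order. -/
noncomputable def chartT : Chart T B (TF M) where
  chr {X} t :=
    { toFun := fun y => (exists_chr_T i hi c t y).choose
      invFun := fun χ => (exists_pt_T i hi c t χ).choose
      left_inv := fun y => by
        rw [← cancel_mono i, (exists_pt_T i hi c t _).choose_spec,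
          (exists_chr_T i hi c t y).choose_spec]
      right_inv := fun χ => by
        apply ptOf_injective c t
        rw [(exists_chr_T i hi c t _).choose_spec, (exists_pt_T i hi c t χ).choose_spec]
      map_mul' := fun y y' => by
        apply ptOf_injective c t
        rw [ptOf_mul, (exists_chr_T i hi c t _).choose_spec, (exists_chr_T i hi c t y).choose_spec,
          (exists_chr_T i hi c t y').choose_spec, MonObj.mul_comp] }
  chr_comp {X X'} g t y := by
    apply ptOf_injective c (g ≫ t)
    refine ((exists_chr_T i hi c (g ≫ t) (g ≫ y)).choose_spec).trans ?_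
    rw [← comp_ptOf]
    refine Eq.trans ?_ (congrArg (g ≫ ·) (exists_chr_T i hi c t y).choose_spec).symm
    exact Category.assoc _ _ _

end chartT

/-- Transport of a chart along an isomorphism of character groups. -/
noncomputable def chartCongr {H B : Over S} [GrpObj H] {M N : Type} [AddCommGroup M] [AddCommGroup N]
    (c : Chart H B M) (e : N ≃+ M) : Chart H B N where
  chr t := (c.chr t).trans
    { toFun := fun χ => χ.comp (AddMonoidHom.toMultiplicative e.toAddMonoidHom)
      invFun := fun χ => χ.comp (AddMonoidHom.toMultiplicative e.symm.toAddMonoidHom)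
      left_inv := fun χ => by
        refine MonoidHom.ext fun m => ?_
        change χ (Multiplicative.ofAdd (e (e.symm (Multiplicative.toAdd m)))) = _
        rw [e.apply_symm_apply]
        rfl
      right_inv := fun χ => by
        refine MonoidHom.ext fun m => ?_
        change χ (Multiplicative.ofAdd (e.symm (e (Multiplicative.toAdd m)))) = _
        rw [e.symm_apply_apply]
        rfl
      map_mul' := fun χ χ' => rfl }
  chr_comp g t h := by
    change (c.chr (g ≫ t) (g ≫ h)).comp _ = _
    rw [c.chr_comp]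
    rfl

lemma exists_equiv_fin (M : Type) [AddCommGroup M] [AddGroup.FG M] :
    ∃ r : ℕ, Nonempty ((Fin r → ℤ) ≃+ TF M) := by
  have h1 : AddGroup.FG (TF M) := inferInstance
  have h2 : Module.Finite ℤ (TF M) := Module.Finite.iff_addGroup_fg.2 h1
  have h3 : Module.Free ℤ (TF M) := inferInstance
  exact ⟨Module.finrank ℤ (TF M), ⟨(Module.finBasis ℤ (TF M)).equivFun.symm.toAddEquiv⟩⟩

/-- The subgroup of points killed by the multiplicative functions of finite order is a torus. -/
theorem isTorus_of_charts {H : Over S} [GrpObj H] (hH : SGA3x.IsMultTypeFT H) {T : Over S} [GrpObj T]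
    (i : T ⟶ H) [IsMonHom i] [Mono i]
    (hi : ∀ (X : Over S) (x : X ⟶ H), IsTorPt x ↔ ∃ t : X ⟶ T, t ≫ i = x) : Red.IsTorus T := by
  obtain ⟨S', f, hf, hs, hq, hc⟩ := hH
  refine ⟨S', f, hf, hs, hq, fun s' => ?_⟩
  obtain ⟨U, hU, M, _, hM, ⟨e⟩⟩ := hc s'
  obtain ⟨r, ⟨φ⟩⟩ := exists_equiv_fin M
  exact ⟨U, hU, r, Chart.toIso _ (chartCongr (chartT i hi (Chart.ofIso _ e)) φ)⟩

/-- **Main theorem.** -/
theorem exists_maximalTorus (hH : SGA3x.IsMultTypeFT H) :
    ∃ (T : Over S) (_ : GrpObj T) (i : T ⟶ H), Red.IsMaximalTorus i ∧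
      ∀ (R : Over S) [GrpObj R] (j : R ⟶ H) [IsMonHom j] [Mono j], Red.IsTorus R →
        ∃ f : R ⟶ T, f ≫ i = j := by
  obtain ⟨T, ⟨r⟩⟩ := exists_rep H hH
  let i : T ⟶ H := (r.homEquiv (𝟙 T)).1
  have hri : ∀ {X : Over S} (t : X ⟶ T), (r.homEquiv t).1 = t ≫ i := by
    intro X t
    have h1 := r.homEquiv_comp t (𝟙 T)
    rw [Category.comp_id] at h1
    exact congrArg Subtype.val h1
  have hmono : Mono i := by
    constructor
    intro X a b hab
    apply r.homEquiv.injective
    apply Subtype.ext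
    rw [hri, hri, hab]
  have hi : ∀ (X : Over S) (x : X ⟶ H), IsTorPt x ↔ ∃ t : X ⟶ T, t ≫ i = x := by
    intro X x
    constructor
    · intro hx
      obtain ⟨t, ht⟩ := r.homEquiv.surjective (⟨x, hx⟩ : (torF H).obj (op X))
      exact ⟨t, by rw [← hri, ht]⟩
    · rintro ⟨t, rfl⟩
      rw [← hri]
      exact (r.homEquiv t).2
  let P : ∀ X : Over S, Subgroup (X ⟶ H) := fun X =>
    { carrier := {x | IsTorPt x}
      mul_mem' := fun hx hy => hx.mul hy
      one_mem' := IsTorPt.one
      inv_mem' := fun hx => hx.inv }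
  obtain ⟨_, _⟩ := SubgrpObj.exists_grpObj P (fun f x hx => IsTorPt.comp hx f) i hi
  refine ⟨T, inferInstance, i, ⟨inferInstance, hmono, isTorus_of_charts hH i hi, ?_⟩, ?_⟩
  · intro s T' _ j _ _ f hT' hfj
    obtain ⟨t, ht⟩ := (hi _ _).1 (isTorPt_of_bc (Red.geomPt s) hT' j)
    let g : T' ⟶ Red.bc (Red.geomPt s) T := DSPts.bcEquiv (Red.geomPt s) T' T t
    have hg : g ≫ (Over.pullback (Red.geomPt s)).map i = j := by
      rw [DSPts.bcEquiv_comp, ht, MulEquiv.apply_symm_apply]
    have hm : Mono ((Over.pullback (Red.geomPt s)).map i) := inferInstance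
    refine ⟨g, ?_, ?_⟩
    · rw [← cancel_mono ((Over.pullback (Red.geomPt s)).map i), Category.assoc, hg, hfj,
        Category.id_comp]
    · rw [← cancel_mono j, Category.assoc, hfj, hg, Category.id_comp]
  · intro R _ j _ _ hR
    exact (hi _ _).1 (isTorPt_of_isMonHom hR j)

end Groth.Agent.Sga3.H828.TorMain
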