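import Groth.Agent.Sga3.H798.FpqcIso
import Groth.Agent.Sga3B.MT.TorusFam

/-!
# Maximality of tori descends along arbitrary morphisms

* `isIso_of_bc`: isomorphisms descend along flat surjective quasi-compact base change.
* `isMaxTorOver_of_bc`: over fields, if `i` is maximal after an extension of the field, `i` is maximal.
* `isMaxTorOver_geomFibre_of_bc`: the same for geometric fibres.
* `isMaximalTorus_of_cover`: if the base changes of `i` along a jointly surjective family are maximal tori, and `T`
  is a torus, `i` is a maximal torus; `isMaximalTorus_of_fpqc`, `isMaximalTorus_of_open`.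
-/

set_option autoImplicit false
universe u
open CategoryTheory MonoidalCategory CartesianMonoidalCategory MonObj GrpObj AlgebraicGeometry Limits

namespace Groth.Agent.Sga3.H828.MTGeom

open Groth.Agent.Sga3B Groth.Agent.Sga3B.AlgBc Groth.Agent.Sga3B.BcNat Groth.Agent.Sga3B.RedIso
  Groth.Agent.Sga3B.TorusBc Groth.Agent.Sga3.H798

variable {S S' : Scheme.{u}}

/-- Isomorphisms descend along flat surjective quasi-compact base change. -/
theorem isIso_of_bc (q : S' ⟶ S) [Flat q] [Surjective q] [QuasiCompact q] {X Y : Over S} (φ : X ⟶ Y)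
    (h : IsIso ((Over.pullback q).map φ)) : IsIso φ := by
  have h1 := FpqcIso.isPullback_map_left q φ
  have h2 : MorphismProperty.isomorphisms Scheme.{u} ((Over.pullback q).map φ).left :=
    (inferInstance : IsIso ((Over.forget _).map ((Over.pullback q).map φ)))
  have h3 : MorphismProperty.isomorphisms Scheme.{u} φ.left := by
    refine MorphismProperty.of_isPullback_of_descendsAlong
      (Q := (@Surjective ⊓ @Flat ⊓ @QuasiCompact : MorphismProperty Scheme.{u})) h1.flip ?_ h2
    exact ⟨⟨inferInstanceAs (Surjective (pullback.fst Y.hom q)),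
      inferInstanceAs (Flat (pullback.fst Y.hom q))⟩,
      inferInstanceAs (QuasiCompact (pullback.fst Y.hom q))⟩
  have h4 : IsIso ((Over.forget _).map φ) := h3
  exact isIso_of_reflects_iso φ (Over.forget _)

section field

variable {K L : Type u} [Field K] [Field L]

lemma surjective_spec_field (θ : Spec (CommRingCat.of L) ⟶ Spec (CommRingCat.of K)) : Surjective θ := by
  have h1 : Subsingleton (Spec (CommRingCat.of K)) := inferInstanceAs (Subsingleton (PrimeSpectrum K))
  obtain ⟨x⟩ : Nonempty (Spec (CommRingCat.of L)) := inferInstanceAs (Nonempty (PrimeSpectrum L))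
  exact ⟨fun y => ⟨x, Subsingleton.elim _ _⟩⟩

/-- If a subgroup is a maximal torus after a field extension, it is a maximal torus. -/
theorem isMaxTorOver_of_bc (θ : Spec (CommRingCat.of L) ⟶ Spec (CommRingCat.of K))
    {T G : Over (Spec (CommRingCat.of K))} [GrpObj T] [GrpObj G] {i : T ⟶ G}
    (h : IsMaxTorOver ((Over.pullback θ).map i)) : IsMaxTorOver i := by
  intro T' _ j _ _ f hT' hf
  have hs := surjective_spec_field θ
  have hfl : Flat θ := inferInstance
  refine isIso_of_bc θ f ?_
  exact h _ ((Over.pullback θ).map j) ((Over.pullback θ).map f) (isTorus_bc θ hT')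
    (by rw [← Functor.map_comp, hf])

end field

/-- A geometric point over `s'` maps to a geometric point over `f s'`. -/
theorem exists_geomPt (f : S' ⟶ S) (s' : S') :
    ∃ θ : Spec (CommRingCat.of (AlgebraicClosure (S'.residueField s'))) ⟶
        Spec (CommRingCat.of (AlgebraicClosure (S.residueField (f s')))),
      θ ≫ Red.geomPt (f s') = Red.geomPt s' ≫ f := by
  let k := S.residueField (f s')
  let k' := S'.residueField s'
  let φ : k →+* AlgebraicClosure k' := (algebraMap k' (AlgebraicClosure k')).comp (f.residueFieldMap s').hom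
  let a1 : Algebra k (AlgebraicClosure k') := φ.toAlgebra
  let e : AlgebraicClosure k →ₐ[k] AlgebraicClosure k' := IsAlgClosed.lift
  refine ⟨Spec.map (CommRingCat.ofHom e.toRingHom), ?_⟩
  rw [Red.geomPt, Red.geomPt, Category.assoc, ← Scheme.Hom.SpecMap_residueFieldMap_fromSpecResidueField,
      ← Category.assoc, ← Category.assoc, ← Spec.map_comp, ← Spec.map_comp]
  congr 2
  ext a
  exact e.commutes a

/-- Maximality of the geometric fibre descends. -/
theorem isMaxTorOver_geomFibre_of_bc (f : S' ⟶ S) (s' : S') {T G : Over S} [GrpObj T] [GrpObj G]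
    {i : T ⟶ G} (h : IsMaxTorOver ((Over.pullback (Red.geomPt s')).map ((Over.pullback f).map i))) :
    IsMaxTorOver ((Over.pullback (Red.geomPt (f s'))).map i) := by
  obtain ⟨θ, hθ⟩ := exists_geomPt f s'
  exact isMaxTorOver_of_bc θ (isMaxTorOver_of_arrow (fibIso hθ T) (fibIso hθ G) (fib_nat hθ i) h)

/-- Maximal tori can be recognised after base change to a jointly surjective family, once it is known that `T` is
a torus. -/
theorem isMaximalTorus_of_cover {J : Type*} {S' : J → Scheme.{u}} (f : ∀ j, S' j ⟶ S)
    (hs : ∀ s : S, ∃ j, s ∈ Set.range (f j)) {T G : Over S} [GrpObj T] [GrpObj G] (i : T ⟶ G)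
    (hi : IsMonHom i) (hm : Mono i) (hT : Red.IsTorus T)
    (h : ∀ j, Red.IsMaximalTorus ((Over.pullback (f j)).map i)) : Red.IsMaximalTorus i := by
  refine ⟨hi, hm, hT, fun s => ?_⟩
  obtain ⟨j, s', rfl⟩ := hs s
  exact isMaxTorOver_geomFibre_of_bc (f j) s' ((h j).2.2.2 s')

/-- Maximal tori descend along fpqc coverings. -/
theorem isMaximalTorus_of_fpqcCover (f : S' ⟶ S) [Flat f] [Surjective f]
    (hc : ∀ V : S.Opens, IsAffineOpen V → ∃ W : S'.Opens, IsCompact (W : Set S') ∧
      f.base '' (W : Set S') = (V : Set S)) {T G : Over S} [GrpObj T] [GrpObj G] (i : T ⟶ G)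
    (hi : IsMonHom i) (hm : Mono i) (h : Red.IsMaximalTorus ((Over.pullback f).map i)) :
    Red.IsMaximalTorus i := by
  refine ⟨hi, hm, AlgBc.isTorus_of_bc f hc h.2.2.1, fun s => ?_⟩
  obtain ⟨s', rfl⟩ := f.surjective s
  exact isMaxTorOver_geomFibre_of_bc f s' (h.2.2.2 s')

/-- Surjective quasi-compact morphisms satisfy the condition in the definition of fpqc coverings. -/
lemma qc_cover_of_quasiCompact (f : S' ⟶ S) [Surjective f] [QuasiCompact f] (V : S.Opens)
    (hV : IsAffineOpen V) : ∃ W : S'.Opens, IsCompact (W : Set S') ∧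
      f.base '' (W : Set S') = (V : Set S) :=
  ⟨f ⁻¹ᵁ V, f.isCompact_preimage hV.isCompact, Set.image_preimage_eq _ f.surjective⟩

end Groth.Agent.Sga3.H828.MTGeom
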