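import Groth.Agent.Sga3.H828.MTIdeal
import Groth.Agent.Sga3.H828.MTGeom
import Groth.Agent.Sga3.H828.SubgrpObj

/-!
# Descent of closed subgroups and of maximal tori along jointly surjective flat families

* `IsMT G T I`: the ideal `I` on `G ×_S T` is the ideal of a closed subgroup which is a maximal torus.
* `isMT_of_cover`: this property descends along jointly surjective flat families along which tori descend.
-/

set_option autoImplicit false
universe u
open CategoryTheory MonoidalCategory CartesianMonoidalCategory MonObj GrpObj AlgebraicGeometry Limits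

namespace Groth.Agent.Sga3.H828.MTDesc

open Groth.Agent.Sga3B Groth.Agent.Sga3B.MT Groth.Agent.Sga3B.RedIso Groth.Agent.Sga3B.Parab
  Groth.Agent.Picfga.HilbPull Groth.Agent.Sga3.H828.MTIdeal

variable {S S' S'' : Scheme.{u}}

/-- Factoring through a closed immersion can be checked on a jointly surjective flat family. -/
lemma exists_lift_of_cover {X Y H : Over S} (h : H ⟶ Y) [IsClosedImmersion h.left] (x : X ⟶ Y)
    {J : Type u} {X' : J → Scheme.{u}} (p : ∀ j, X' j ⟶ X.left) (hfl : ∀ j, Flat (p j))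
    (hs : ∀ t : X.left, ∃ j, t ∈ Set.range (p j))
    (hl : ∀ j, ∃ y : X' j ⟶ H.left, y ≫ h.left = p j ≫ x.left) : ∃ y : X ⟶ H, y ≫ h = x := by
  choose y hy using hl
  let P : (∐ X') ⟶ X.left := Sigma.desc p
  have h1 : Flat P := inferInstanceAs (Flat (Sigma.desc p))
  have h2 : Surjective P := by
    apply Surjective.sigmaDesc_of_union_range_eq_univ
    rw [Set.eq_univ_iff_forall]
    intro t
    obtain ⟨j, ht⟩ := hs t
    exact Set.mem_iUnion.mpr ⟨j, ht⟩
  have h3 : IsSchemeTheoreticallyDominant P :=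
    Sga3C.FlatGeneric.isSchemeTheoreticallyDominant_of_flat_surjective P
  obtain ⟨l, hl⟩ := Sga3C.SchemImage.exists_lift P x.left h.left (Sigma.desc y) (by
    apply Sigma.hom_ext
    intro j
    rw [Sigma.ι_desc_assoc, Sigma.ι_desc_assoc, hy])
  refine ⟨Over.homMk l ?_, ?_⟩
  · rw [← Over.w h, ← Category.assoc, hl, Over.w]
  · ext1
    exact hl

section subgroup

variable {J : Type u} {Z : J → Scheme.{u}} (q : ∀ j, Z j ⟶ S) {G H : Over S} [GrpObj G] (h : H ⟶ G)
  [IsClosedImmersion h.left] (hfl : ∀ j, Flat (q j)) (hs : ∀ t : S, ∃ j, t ∈ Set.range (q j))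

include hfl hs in
omit [GrpObj G] in
/-- Factoring through a closed immersion can be checked after base change to a cover. -/
lemma factor_iff (X : Over S) (x : X ⟶ G) : (∃ y : X ⟶ H, y ≫ h = x) ↔
    ∀ j, ∃ y : Red.bc (q j) X ⟶ Red.bc (q j) H,
      y ≫ (Over.pullback (q j)).map h = (Over.pullback (q j)).map x := by
  constructor
  · rintro ⟨y, rfl⟩ j
    exact ⟨(Over.pullback (q j)).map y, ((Over.pullback (q j)).map_comp y h).symm⟩
  · intro hj
    refine exists_lift_of_cover h x (fun j => pullback.fst X.hom (q j)) (fun j => inferInstance)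
      (fun t => ?_) fun j => ?_
    · obtain ⟨j, z, hz⟩ := hs (X.hom t)
      obtain ⟨w, hw, -⟩ := Scheme.Pullback.exists_preimage_pullback (f := X.hom) (g := q j) t z hz.symm
      exact ⟨j, w, hw⟩
    · obtain ⟨y, hy⟩ := hj j
      refine ⟨y.left ≫ pullback.fst H.hom (q j), ?_⟩
      have h1 := (Groth.Agent.Sga3.H798.FpqcIso.isPullback_map_left (q j) h).w
      have h2 := (Groth.Agent.Sga3.H798.FpqcIso.isPullback_map_left (q j) x).w
      rw [Category.assoc, h1, h2, ← Category.assoc, ← Over.comp_left, hy]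

include hfl hs in
/-- A closed subscheme which becomes a subgroup after base change to a cover is a subgroup. -/
theorem exists_grpObj_of_cover
    (hj : ∀ j, ∃ (H' : Over (Z j)) (_ : GrpObj H') (h' : H' ⟶ Red.bc (q j) G), IsMonHom h' ∧
      ∃ e : H' ≅ Red.bc (q j) H, e.hom ≫ (Over.pullback (q j)).map h = h') :
    ∃ _ : GrpObj H, IsMonHom h := by
  choose H' gH' h' mh' e he using hj
  have key : ∀ (j : J) (X : Over (Z j)) (z : X ⟶ Red.bc (q j) G),
      (∃ y : X ⟶ Red.bc (q j) H, y ≫ (Over.pullback (q j)).map h = z) ↔ ∃ y : X ⟶ H' j, y ≫ h' j = z := by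
    intro j X z
    constructor
    · rintro ⟨y, rfl⟩
      refine ⟨y ≫ (e j).inv, ?_⟩
      rw [← he j, Category.assoc, Iso.inv_hom_id_assoc]
    · rintro ⟨y, rfl⟩
      refine ⟨y ≫ (e j).hom, ?_⟩
      rw [Category.assoc, he]
  have hm : Mono h := Sga3C.ClosedSub.mono_of_left h
  let P : ∀ X : Over S, Subgroup (X ⟶ G) := fun X =>
    { carrier := {x | ∃ y : X ⟶ H, y ≫ h = x}
      mul_mem' := by
        intro a b ha hb
        rw [Set.mem_ofPred_eq, factor_iff q h hfl hs] at ha hb ⊢
        intro j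
        obtain ⟨y, hy⟩ := (key j _ _).1 (ha j)
        obtain ⟨z, hz⟩ := (key j _ _).1 (hb j)
        refine (key j _ _).2 ⟨y * z, ?_⟩
        rw [MonObj.mul_comp, hy, hz, Functor.map_mul]
      one_mem' := by
        rw [Set.mem_ofPred_eq, factor_iff q h hfl hs]
        intro j
        refine (key j _ _).2 ⟨1, ?_⟩
        rw [MonObj.one_comp, Functor.map_one]
      inv_mem' := by
        intro a ha
        rw [Set.mem_ofPred_eq, factor_iff q h hfl hs] at ha ⊢
        intro j
        obtain ⟨y, hy⟩ := (key j _ _).1 (ha j)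
        refine (key j _ _).2 ⟨y⁻¹, ?_⟩
        rw [GrpObj.inv_comp, hy, eq_comm, eq_inv_iff_mul_eq_one, ← Functor.map_mul, inv_mul_cancel,
          Functor.map_one] }
  exact SubgrpObj.exists_grpObj P (fun f x hx => by
    obtain ⟨y, rfl⟩ := hx
    exact ⟨f ≫ y, Category.assoc _ _ _⟩) h fun X x => Iff.rfl

end subgroup

section bcSub

variable {f : S' ⟶ S} {G : Over S} [GrpObj G] {T : Over S'} [GrpObj T]

lemma und_bcCompIso_symm (q : S'' ⟶ S') (f : S' ⟶ S) (G : Over S) [GrpObj G] :
    (und (BcIso.bcCompIso q f G).symm).hom = (Over.pullbackComp q f).inv.app G := by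
  have h1 := BcNat.und_bcCompIso q f G
  have h2 : (RedIso.und (BcIso.bcCompIso q f G).symm).hom ≫
      (RedIso.und (BcIso.bcCompIso q f G)).hom = 𝟙 _ := by
    rw [BcNat.und_symm, Iso.inv_hom_id]
  rw [h1] at h2
  have h3 : (Over.pullbackComp q f).inv.app G ≫ (Over.pullbackComp q f).hom.app G = 𝟙 _ := by
    simp
  exact (cancel_mono ((Over.pullbackComp q f).hom.app G)).1 (h2.trans h3.symm)

instance isMonHom_bcSub (q : S'' ⟶ S') (t : T ⟶ Red.bc f G) [IsMonHom t] : IsMonHom (bcSub q t) := by
  have h1 : IsMonHom (und (BcIso.bcCompIso q f G).symm).hom := inferInstance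
  rw [und_bcCompIso_symm] at h1
  exact inferInstanceAs (IsMonHom ((Over.pullback q).map t ≫ (Over.pullbackComp q f).inv.app G))

lemma isMaximalTorus_bcSub_iff (q : S'' ⟶ S') (t : T ⟶ Red.bc f G) :
    Red.IsMaximalTorus (bcSub q t) ↔ Red.IsMaximalTorus ((Over.pullback q).map t) := by
  constructor
  · intro h
    refine AlgBc.isMaximalTorus_of_arrow (Iso.refl _) (BcIso.bcCompIso q f G) ?_ h
    rw [BcNat.und_bcCompIso, bcSub, Category.assoc]
    refine Eq.trans ?_ (Category.id_comp _).symm
    have h3 : (Over.pullbackComp q f).inv.app G ≫ (Over.pullbackComp q f).hom.app G = 𝟙 _ := by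
      simp
    rw [h3]
    exact Category.comp_id _
  · intro h
    refine AlgBc.isMaximalTorus_of_arrow (Iso.refl _) (BcIso.bcCompIso q f G).symm ?_ h
    rw [und_bcCompIso_symm]
    exact (Category.id_comp _).symm

end bcSub

section main

variable {G : Over S} [GrpObj G]

variable (G) in
/-- The ideal `I` on `G ×_S T` is the ideal of a closed subgroup which is a maximal torus. -/
def IsMT (T : Over S) (I : (PicF.XT G.hom T).IdealSheafData) : Prop :=
  ∃ (H : Over T.left) (_ : GrpObj H) (h : H ⟶ Red.bc T.hom G),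
    Red.IsMaximalTorus h ∧ IsClosedImmersion h.left ∧ h.left.ker = I

/-- The property descends along jointly surjective flat families along which tori descend. -/
theorem isMT_of_cover_aux {T : Over S} {J : Type u} {Z : J → Scheme.{u}} (q : ∀ j, Z j ⟶ T.left)
    (hfl : ∀ j, Flat (q j)) (hs : ∀ t : T.left, ∃ j, t ∈ Set.range (q j))
    (htor : ∀ (H : Over T.left) [GrpObj H], (∀ j, Red.IsTorus (Red.bc (q j) H)) → Red.IsTorus H)
    (I : (PicF.XT G.hom T).IdealSheafData)
    (hj : ∀ j, IsMT G (Over.mk (q j ≫ T.hom)) (I.comap (PicF.XTmap G.hom (om (q j) T.hom)))) :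
    IsMT G T I := by
  let H : Over T.left := Over.mk (I.subschemeι ≫ PicF.XTproj G.hom T)
  let h : H ⟶ Red.bc T.hom G := Over.homMk I.subschemeι rfl
  have hcl : IsClosedImmersion h.left := inferInstanceAs (IsClosedImmersion I.subschemeι)
  have hker : h.left.ker = I := I.ker_subschemeι
  have hm : Mono h := Sga3C.ClosedSub.mono_of_left h
  choose H' gH' h' hmt' hcl' hker' using hj
  have hmon' : ∀ j, IsMonHom (h' j) := fun j => (hmt' j).1
  have hmono' : ∀ j, Mono (h' j) := fun j => (hmt' j).2.1
  have hclb : ∀ j, IsClosedImmersion (bcSub (q j) h).left := fun j => isClosedImmersion_bcSub _ _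
  have hE : ∀ j, ∃ e : H' j ≅ Red.bc (q j) H, e.hom ≫ bcSub (q j) h = h' j := fun j => by
    rw [← ker_eq_iff, hker', ker_bcSub, hker]
  choose e he using hE
  obtain ⟨gH, hmon⟩ := exists_grpObj_of_cover q h hfl hs fun j =>
    ⟨H' j, gH' j, h' j ≫ (und (BcIso.bcCompIso (q j) T.hom G)).hom, inferInstance, e j, by
      rw [← he j, Category.assoc, BcNat.und_bcCompIso, bcSub, Category.assoc]
      have h3 : (Over.pullbackComp (q j) T.hom).inv.app G ≫ (Over.pullbackComp (q j) T.hom).hom.app G =
        𝟙 _ := by simp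
      rw [h3]
      exact (congrArg ((e j).hom ≫ ·) (Category.comp_id _)).symm⟩
  have hG : ∀ j, ∃ e' : Grp.mk (H' j) ≅ Grp.mk (Red.bc (q j) H), (und e').hom = (e j).hom := fun j => by
    have : Mono (bcSub (q j) h) := Sga3C.ClosedSub.mono_of_left _
    exact exists_grpIso (h' j) (bcSub (q j) h) (e j) (he j)
  choose e' he' using hG
  have hmax : ∀ j, Red.IsMaximalTorus ((Over.pullback (q j)).map h) := fun j => by
    rw [← isMaximalTorus_bcSub_iff]
    refine AlgBc.isMaximalTorus_of_arrow (e' j) (Iso.refl _) ?_ (hmt' j)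
    rw [he', he]
    exact Category.comp_id _
  have hT : Red.IsTorus H := htor H fun j => (hmax j).2.2.1
  exact ⟨H, gH, h, MTGeom.isMaximalTorus_of_cover q hs h hmon hm hT hmax, hcl, hker⟩

/-- The property descends along jointly surjective flat families along which tori descend. -/
theorem isMT_of_cover {T : Over S} {J : Type u} {V : J → Over S} (g : ∀ j, V j ⟶ T)
    (hfl : ∀ j, Flat (g j).left) (hs : ∀ t : T.left, ∃ j, t ∈ Set.range (g j).left)
    (htor : ∀ (H : Over T.left) [GrpObj H], (∀ j, Red.IsTorus (Red.bc (g j).left H)) → Red.IsTorus H)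
    (I : (PicF.XT G.hom T).IdealSheafData)
    (hj : ∀ j, IsMT G (V j) (I.comap (PicF.XTmap G.hom (g j)))) : IsMT G T I := by
  refine isMT_of_cover_aux (fun j => (g j).left) hfl hs htor I fun j => ?_
  exact over_cases (motive := fun T' k => IsMT G T' (I.comap (PicF.XTmap G.hom k)) →
    IsMT G (Over.mk (k.left ≫ T.hom)) (I.comap (PicF.XTmap G.hom (om k.left T.hom))))
    (fun Z q H => H) (V j) (g j) (hj j)

/-- The property descends along flat surjective quasi-compact morphisms. -/
theorem isMT_of_fpqc {T' T : Over S} (g : T' ⟶ T) [Flat g.left] [Surjective g.left]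
    [QuasiCompact g.left] (I : (PicF.XT G.hom T).IdealSheafData)
    (h : IsMT G T' (I.comap (PicF.XTmap G.hom g))) : IsMT G T I := by
  refine isMT_of_cover (J := PUnit.{u + 1}) (fun _ => g) (fun _ => inferInstance)
    (fun t => ⟨⟨⟩, g.left.surjective t⟩) (fun H _ hH => ?_) I fun _ => h
  exact AlgBc.isTorus_of_bc g.left (MTGeom.qc_cover_of_quasiCompact g.left) (hH ⟨⟩)

/-- The property is Zariski local. -/
theorem isMT_of_open {T : Over S} {J : Type u} {V : J → Over S} (g : ∀ j, V j ⟶ T)
    (ho : ∀ j, IsOpenImmersion (g j).left) (hs : ∀ t : T.left, ∃ j, t ∈ Set.range (g j).left)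
    (I : (PicF.XT G.hom T).IdealSheafData)
    (h : ∀ j, IsMT G (V j) (I.comap (PicF.XTmap G.hom (g j)))) : IsMT G T I :=
  isMT_of_cover g (fun j => inferInstance) hs (fun H _ hH =>
    isTorus_of_family (fun j => (g j).left) (fun j => inferInstance) (fun j => (g j).left.isOpenMap)
      hs hH) I h

end main

end Groth.Agent.Sga3.H828.MTDesc
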