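import Groth.Agent.Sga3B.DSPts
import Groth.Agent.Sga3B.BcPts
import Groth.Agent.Sga3B.Pts

/-!
# Charts of diagonalisable type for a group scheme, in terms of points

`Chart H B M`: for `T` over `B` (`B : Over S`), the group `H(T)` is naturally the group of characters
`M → Γ(T)`.  This is the same as an isomorphism of `H ×_S B` with `D_B(M)` (`Chart.ofIso`, `Chart.toIso`).
-/

set_option autoImplicit false
universe v u
open CategoryTheory MonoidalCategory CartesianMonoidalCategory MonObj GrpObj AlgebraicGeometry Limits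

namespace Groth.Agent.Sga3.H828.DiagChart

open Groth.Agent.Sga3B

section yoneda

variable {C : Type*} [Category* C] [CartesianMonoidalCategory C] {G G' : C} [GrpObj G] [GrpObj G']

/-- An isomorphism of group objects from a natural isomorphism of groups of points. -/
theorem exists_iso_of_points (e : ∀ X : C, (X ⟶ G) ≃* (X ⟶ G'))
    (he : ∀ {X Y : C} (f : Y ⟶ X) (x : X ⟶ G), e Y (f ≫ x) = f ≫ e X x) :
    ∃ i : Grp.mk G ≅ Grp.mk G', ∀ (X : C) (x : X ⟶ G), x ≫ i.hom.hom.hom = e X x := by
  have he' : ∀ {X Y : C} (f : Y ⟶ X) (x : X ⟶ G'), (e Y).symm (f ≫ x) = f ≫ (e X).symm x := by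
    intro X Y f x
    apply (e Y).injective
    rw [he]
    simp
  let i : G ≅ G' :=
    { hom := e G (𝟙 G)
      inv := (e G').symm (𝟙 G')
      hom_inv_id := by rw [← he', Category.comp_id]; simp
      inv_hom_id := by rw [← he, Category.comp_id]; simp }
  have hi : ∀ (X : C) (x : X ⟶ G), x ≫ i.hom = e X x := by
    intro X x
    change x ≫ e G (𝟙 G) = _
    rw [← he, Category.comp_id]
  have : IsMonHom i.hom := by
    apply Pts.isMonHom_of_points
    intro X x y
    rw [hi, hi, hi, map_mul]
  exact ⟨Grp.mkIso' i, hi⟩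

end yoneda

variable {S : Scheme.{u}}

/-- A diagonalisable chart of the group `H` over the `S`-scheme `B`. -/
structure Chart (H B : Over S) [GrpObj H] (M : Type) [AddCommGroup M] where
  /-- the character attached to a point -/
  chr : ∀ {T : Over S} (_ : T ⟶ B), (T ⟶ H) ≃* (Multiplicative M →* Γ(T.left, ⊤))
  chr_comp : ∀ {T T' : Over S} (g : T' ⟶ T) (t : T ⟶ B) (h : T ⟶ H),
    chr (g ≫ t) (g ≫ h) = (g.left.appTop.hom : _ →* _).comp (chr t h)

namespace Chart

variable {H B B' : Over S} [GrpObj H] {M : Type} [AddCommGroup M]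

lemma chr_comp_apply (c : Chart H B M) {T T' : Over S} (g : T' ⟶ T) (t : T ⟶ B) (h : T ⟶ H)
    (m : Multiplicative M) :
    c.chr (g ≫ t) (g ≫ h) m = g.left.appTop (c.chr t h m) := by
  rw [c.chr_comp]; rfl

lemma chr_symm_comp (c : Chart H B M) {T T' : Over S} (g : T' ⟶ T) (t : T ⟶ B)
    (χ : Multiplicative M →* Γ(T.left, ⊤)) :
    g ≫ (c.chr t).symm χ = (c.chr (g ≫ t)).symm ((g.left.appTop.hom : _ →* _).comp χ) := by
  apply (c.chr (g ≫ t)).injective
  rw [c.chr_comp]
  simp

/-- Restriction of a chart. -/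
def restrict (c : Chart H B M) (b : B' ⟶ B) : Chart H B' M where
  chr t := c.chr (t ≫ b)
  chr_comp g t h := by
    have : (g ≫ t) ≫ b = g ≫ t ≫ b := Category.assoc _ _ _
    rw [this, c.chr_comp]

section ofIso

variable {U : Scheme.{u}} (q : U ⟶ S)

/-- Precomposition with an isomorphism, on points of a group object. -/
def precomp {T T' : Over S} (i : T' ≅ T) (G : Over S) [GrpObj G] : (T ⟶ G) ≃* (T' ⟶ G) where
  toFun x := i.hom ≫ x
  invFun x := i.inv ≫ x
  left_inv x := by simp
  right_inv x := by simp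
  map_mul' x y := MonObj.comp_mul _ _ _

/-- Postcomposition with an isomorphism of groups, on points. -/
def postcomp {G G' : Over U} [GrpObj G] [GrpObj G'] (i : Grp.mk G ≅ Grp.mk G') (T : Over U) :
    (T ⟶ G) ≃* (T ⟶ G') where
  toFun x := x ≫ i.hom.hom.hom
  invFun x := x ≫ i.inv.hom.hom
  left_inv x := by
    have h1 : i.hom.hom.hom ≫ i.inv.hom.hom = 𝟙 _ := congrArg (fun f => f.hom.hom) i.hom_inv_id
    refine (Category.assoc _ _ _).trans ((congrArg (x ≫ ·) h1).trans (Category.comp_id _))
  right_inv x := by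
    have h1 : i.inv.hom.hom ≫ i.hom.hom.hom = 𝟙 _ := congrArg (fun f => f.hom.hom) i.inv_hom_id
    refine (Category.assoc _ _ _).trans ((congrArg (x ≫ ·) h1).trans (Category.comp_id _))
  map_mul' x y := MonObj.mul_comp _ _ _

/-- The chart attached to an isomorphism of the base change with a diagonalisable group. -/
noncomputable def ofIso (e : Grp.mk (Red.bc q H) ≅ Grp.mk (Red.DS U M)) :
    Chart H (Over.mk q) M where
  chr {T} t := ((precomp (BcPts.overIso t) H).trans
      (DSPts.bcEquiv q (Over.mk t.left) H)).trans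
        ((postcomp e (Over.mk t.left)).trans (DSPts.dsEquiv (Over.mk t.left) M).symm)
  chr_comp {T T'} g t h := by
    let g' : Over.mk (g ≫ t).left ⟶ Over.mk t.left := Over.homMk g.left rfl
    have h1 : (BcPts.overIso (g ≫ t)).hom ≫ g ≫ h =
        (Over.map q).map g' ≫ (BcPts.overIso t).hom ≫ h := by
      rw [← Category.assoc, ← Category.assoc]
      congr 1
    have h2 : DSPts.dsChar (DSPts.bcEquiv q (Over.mk (g ≫ t).left) H
        ((BcPts.overIso (g ≫ t)).hom ≫ g ≫ h) ≫ e.hom.hom.hom) =
      (g'.left.appTop.hom : _ →* _).comp (DSPts.dsChar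
        (DSPts.bcEquiv q (Over.mk t.left) H ((BcPts.overIso t).hom ≫ h) ≫ e.hom.hom.hom)) := by
      rw [h1, ← DSPts.bcEquiv_naturality, Category.assoc, DSPts.dsChar_comp]
    exact h2

/-- the tautological map of a `U`-scheme, viewed over `S`, to `U`. -/
noncomputable abbrev taut (X : Over U) : (Over.map q).obj X ⟶ Over.mk q := Over.homMk X.hom rfl

/-- A chart over `Over.mk q` gives an isomorphism of the base change with a diagonalisable group. -/
theorem toIso (c : Chart H (Over.mk q) M) : Nonempty (Grp.mk (Red.bc q H) ≅ Grp.mk (Red.DS U M)) := by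
  obtain ⟨i, -⟩ := exists_iso_of_points (G := Red.bc q H) (G' := Red.DS U M)
    (fun X => ((DSPts.bcEquiv q X H).symm.trans (c.chr (taut q X))).trans (DSPts.dsEquiv X M))
    (by
      intro X Y f x
      change DSPts.dsEquiv Y M (c.chr (taut q Y) ((DSPts.bcEquiv q Y H).symm (f ≫ x))) =
        f ≫ DSPts.dsEquiv X M (c.chr (taut q X) ((DSPts.bcEquiv q X H).symm x))
      rw [← DSPts.bcEquiv_symm_naturality, DSPts.dsEquiv_naturality]
      have : taut q Y = (Over.map q).map f ≫ taut q X := by
        ext1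
        simp
      rw [this, c.chr_comp]
      rfl)
  exact ⟨i⟩

end ofIso

end Chart

end Groth.Agent.Sga3.H828.DiagChart
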