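import Groth.Agent.Desc.LocalRep
import Groth.Agent.Ega2.QuasiAffine

/-!
# Descent of representability along an fpqc covering

* `isZarSheaf_restr`: the restriction of a Zariski sheaf is a Zariski sheaf.
* `exists_rep_of_fpqcCover`: let `F` be a Zariski sheaf on `Over S` satisfying the sheaf condition for flat
  surjective quasi-compact morphisms, `f : S' ⟶ S` a flat surjective morphism which is an fpqc covering (every
  affine open of `S` is the image of a quasi-compact open of `S'`).  If, Zariski-locally on `S'`, the restriction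
  of `F` is represented by quasi-affine objects with a property `P` (local on the target, stable under base
  change, descending along fpqc morphisms), then `F` is represented by an object with the property `P`.
-/

set_option autoImplicit false
set_option backward.isDefEq.respectTransparency false
set_option backward.isDefEq.respectTransparency.types false
universe u
open CategoryTheory CategoryTheory.Limits AlgebraicGeometry Opposite

namespace Groth.Agent.Sga3.H828.FpqcRep

open Groth.Agent.Desc.SecFunctor Groth.Agent.Desc.SecPresheaf Groth.Agent.Desc.SecDescent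
  Groth.Agent.Picfga.OverRep Groth.Agent.Desc.ZarGlue Groth.Agent.Ega2.QuasiAffine

variable {S : Scheme.{u}}

/-- The restriction of a Zariski sheaf is a Zariski sheaf. -/
theorem isZarSheaf_restr {S' : Scheme.{u}} (q : S' ⟶ S) {F : (Over S)ᵒᵖ ⥤ Type u} (hF : IsZarSheaf F) :
    IsZarSheaf (restr q F) := by
  intro T 𝒰 x hx
  let 𝒰' : Cov ((Over.map q).obj T) :=
    { «ι» := 𝒰.ι
      V := fun i => (Over.map q).obj (𝒰.V i)
      j := fun i => (Over.map q).map (𝒰.j i)
      isOpen := fun i => inferInstanceAs (IsOpenImmersion (𝒰.j i).left)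
      covers := 𝒰.covers }
  refine hF ((Over.map q).obj T) 𝒰' x ?_
  intro i k Z a b hab
  let Z' : Over S' := Over.mk (a.left ≫ (𝒰.V i).hom)
  have hab' : a.left ≫ (𝒰.j i).left = b.left ≫ (𝒰.j k).left := congrArg (fun f => f.left) hab
  have hZ : b.left ≫ (𝒰.V k).hom = a.left ≫ (𝒰.V i).hom := by
    rw [← Over.w (𝒰.j i), ← Over.w (𝒰.j k), ← Category.assoc, ← Category.assoc, hab']
  have h1 := hx i k Z' (Over.homMk a.left rfl) (Over.homMk b.left hZ) (by ext1; exact hab')
  let i₀ : Z ⟶ (Over.map q).obj Z' := Over.homMk (𝟙 _) (by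
    change 𝟙 _ ≫ (a.left ≫ (𝒰.V i).hom) ≫ q = Z.hom
    rw [Category.id_comp, Category.assoc]
    exact Over.w a)
  have e0 : a = i₀ ≫ (Over.map q).map (Over.homMk a.left rfl : Z' ⟶ 𝒰.V i) := by
    ext; simp [i₀]
  have e1 : b = i₀ ≫ (Over.map q).map (Over.homMk b.left hZ : Z' ⟶ 𝒰.V k) := by
    ext; simp [i₀]
  rw [e0, e1, op_comp, op_comp, F.map_comp, F.map_comp, ConcreteCategory.comp_apply,
    ConcreteCategory.comp_apply]
  exact congrArg _ h1

/-- The conditions for flat surjective quasi-compact morphisms are inherited by restrictions. -/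
theorem isPSheaf_restr_of_isDesc {F : (Over S)ᵒᵖ ⥤ Type u}
    (hF : ∀ {T' T : Over S} (g : T' ⟶ T), Flat g.left → Surjective g.left → QuasiCompact g.left →
      IsDesc F g) {V W : Scheme.{u}} (v : V ⟶ S) (q : W ⟶ V) [Flat q] [Surjective q] [QuasiCompact q] :
    IsPSheaf q (restr v F) := by
  intro T₂
  apply IsDesc.restr
  have h1 : Flat ((Over.map v).map (projT q T₂)).left := by
    change Flat (pullback.snd q T₂.hom)
    infer_instance
  have h2 : Surjective ((Over.map v).map (projT q T₂)).left := by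
    change Surjective (pullback.snd q T₂.hom)
    infer_instance
  have h3 : QuasiCompact ((Over.map v).map (projT q T₂)).left := by
    change QuasiCompact (pullback.snd q T₂.hom)
    infer_instance
  exact hF _ h1 h2 h3

/-- **Descent of representability along an fpqc covering.** -/
theorem exists_rep_of_fpqcCover (F : (Over S)ᵒᵖ ⥤ Type u) (hZ : IsZarSheaf F)
    (hF : ∀ {T' T : Over S} (g : T' ⟶ T), Flat g.left → Surjective g.left → QuasiCompact g.left →
      IsDesc F g)
    (P : MorphismProperty Scheme.{u}) [IsZariskiLocalAtTarget P] [P.IsStableUnderBaseChange]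
    [P.DescendsAlong (@Surjective ⊓ @Flat ⊓ @QuasiCompact)]
    {S' : Scheme.{u}} (f : S' ⟶ S) [Flat f] [Surjective f]
    (hc : ∀ V : S.Opens, IsAffineOpen V → ∃ W : S'.Opens, IsCompact (W : Set S') ∧
      f.base '' (W : Set S') = (V : Set S))
    (H : ∀ s' : S', ∃ U : S'.Opens, s' ∈ U ∧ ∃ E : Over U.toScheme, P E.hom ∧ Mor2.IsQuasiAffine E.hom ∧
      Nonempty ((restr (U.ι ≫ f) F).RepresentableBy E)) :
    ∃ E : Over S, P E.hom ∧ Nonempty (F.RepresentableBy E) := by
  have key : ∀ s : S, ∃ V : S.Opens, s ∈ V ∧ ∃ E : Over V.toScheme, P E.hom ∧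
      Nonempty ((restr V.ι F).RepresentableBy E) := by
    intro s
    obtain ⟨V, hV, hsV⟩ : ∃ V : S.Opens, IsAffineOpen V ∧ s ∈ V := by
      obtain ⟨_, ⟨V, hV, rfl⟩, hsV, -⟩ :=
        S.isBasis_affineOpens.exists_subset_of_mem_open (Set.mem_univ s) isOpen_univ
      exact ⟨V, hV, hsV⟩
    refine ⟨V, hsV, ?_⟩
    obtain ⟨W, hW, hWV⟩ := hc V hV
    have hle : W ≤ f ⁻¹ᵁ V := by
      intro w hw
      have : f.base w ∈ f.base '' (W : Set S') := ⟨w, hw, rfl⟩
      rw [hWV] at this
      exact this
    have : IsAffine V := hV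
    have : CompactSpace W := isCompact_iff_compactSpace.mp hW
    let q : W.toScheme ⟶ V.toScheme := f.resLE V W hle
    have hq : q ≫ V.ι = W.ι ≫ f := f.resLE_comp_ι hle
    have hflat : Flat q := inferInstance
    have hqc : QuasiCompact q := inferInstance
    have hsurj : Surjective q := by
      constructor
      rintro ⟨v, hv⟩
      have : v ∈ f.base '' (W : Set S') := by rw [hWV]; exact hv
      obtain ⟨w, hw, rfl⟩ := this
      refine ⟨⟨w, hw⟩, ?_⟩
      apply Subtype.ext
      simp [q]
    -- representability over `W`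
    have hW' : ∀ w : W, ∃ O : W.toScheme.Opens, w ∈ O ∧ ∃ E : Over O.toScheme,
        (P ⊓ QAff) E.hom ∧ Nonempty ((restr O.ι (restr (q ≫ V.ι) F)).RepresentableBy E) := by
      intro w
      obtain ⟨U, hU, E, hE, hqa, ⟨e⟩⟩ := H (W.ι w)
      let r : (W.ι ⁻¹ᵁ U : W.toScheme.Opens).toScheme ⟶ U.toScheme := W.ι ∣_ U
      have hr : r ≫ U.ι = (W.ι ⁻¹ᵁ U).ι ≫ W.ι := morphismRestrict_ι _ _
      refine ⟨W.ι ⁻¹ᵁ U, hU, (Over.pullback r).obj E, ⟨?_, ?_⟩, ⟨?_⟩⟩
      · exact MorphismProperty.pullback_snd (P := P) _ _ hE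
      · exact MorphismProperty.pullback_snd (P := QAff) _ _ hqa
      · refine (pullRep r e).ofIso (restrCompIso rfl F ≪≫ (restrCompIso ?_ F).symm)
        rw [hq, ← Category.assoc, ← hr, Category.assoc]
    choose O hO E hE e using hW'
    obtain ⟨EW, ⟨hEP, hEQ⟩, ⟨eW⟩⟩ := exists_rep_of_openCover_prop O (fun w => ⟨w, hO w⟩) E
      (fun w => (e w).some) (isZarSheaf_restr _ hZ) (P ⊓ QAff) hE
    obtain ⟨U₀, hU₀, ⟨j⟩⟩ := Groth.Agent.Desc.LocalRep.exists_rep_of_fpqc q
      (isPSheaf_restr_of_isDesc hF V.ι q) EW hEQ (eW.ofIso (restrCompIso rfl F).symm)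
    refine ⟨U₀, ?_, hU₀⟩
    have h3 : P ((Over.pullback q).obj U₀).hom := by
      rw [← Over.w j.hom]
      exact (P.cancel_left_of_respectsIso _ _).mpr hEP
    have h4 : ((Over.pullback q).obj U₀).hom = pullback.snd U₀.hom q := rfl
    rw [h4] at h3
    exact MorphismProperty.of_pullback_snd_of_descendsAlong (P := P)
      (Q := (@Surjective ⊓ @Flat ⊓ @QuasiCompact : MorphismProperty Scheme.{u}))
      ⟨⟨inferInstance, inferInstance⟩, inferInstance⟩ h3
  choose V hV E hE e using key
  exact exists_rep_of_openCover_prop V (fun s => ⟨s, hV s⟩) E (fun s => (e s).some) hZ P hE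

end Groth.Agent.Sga3.H828.FpqcRep
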