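import Groth.Agent.Sga3.H828.FpqcRep
import Groth.Agent.Sga3B.AlgBc2

/-!
# Descent of representability along an fpqc covering, with a flat-local hypothesis

`exists_rep_of_fpqcCover'`: as `FpqcRep.exists_rep_of_fpqcCover`, but the representability is only required after
a family of flat locally finitely presented (e.g. étale) morphisms `W ⟶ S'` covering `S'`.
-/

set_option autoImplicit false
set_option backward.isDefEq.respectTransparency false
set_option backward.isDefEq.respectTransparency.types false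
universe u
open CategoryTheory CategoryTheory.Limits AlgebraicGeometry Opposite

namespace Groth.Agent.Sga3.H828.FpqcRep2

open Groth.Agent.Desc.SecFunctor Groth.Agent.Desc.SecPresheaf Groth.Agent.Desc.SecDescent
  Groth.Agent.Picfga.OverRep Groth.Agent.Desc.ZarGlue Groth.Agent.Ega2.QuasiAffine

variable {S : Scheme.{u}}

/-- The composition of an open surjective morphism and an fpqc covering is an fpqc covering. -/
lemma qc_cover_comp {S' S'' : Scheme.{u}} (f : S' ⟶ S) (c : S'' ⟶ S') [Surjective c]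
    (hco : IsOpenMap c.base)
    (hc : ∀ V : S.Opens, IsAffineOpen V → ∃ W : S'.Opens, IsCompact (W : Set S') ∧
      f.base '' (W : Set S') = (V : Set S)) (V : S.Opens) (hV : IsAffineOpen V) :
    ∃ W : S''.Opens, IsCompact (W : Set S'') ∧ (c ≫ f).base '' (W : Set S'') = (V : Set S) := by
  obtain ⟨W, hW, hWV⟩ := hc V hV
  obtain ⟨W', hW', hWW⟩ := Sga3B.AlgBc.qc_cover_of_isCompact c (Sga3B.AlgBc.qc_cover_of_isOpenMap c hco) W hW
  refine ⟨W', hW', ?_⟩
  rw [← hWV, ← hWW]
  ext s
  constructor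
  · rintro ⟨x, hx, rfl⟩
    exact ⟨c.base x, ⟨x, hx, rfl⟩, by simp⟩
  · rintro ⟨_, ⟨x, hx, rfl⟩, rfl⟩
    exact ⟨x, hx, by simp⟩

/-- **Descent of representability along an fpqc covering**, flat-local version. -/
theorem exists_rep_of_fpqcCover' (F : (Over S)ᵒᵖ ⥤ Type u) (hZ : IsZarSheaf F)
    (hF : ∀ {T' T : Over S} (g : T' ⟶ T), Flat g.left → Surjective g.left → QuasiCompact g.left →
      IsDesc F g)
    (P : MorphismProperty Scheme.{u}) [IsZariskiLocalAtTarget P] [P.IsStableUnderBaseChange]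
    [P.DescendsAlong (@Surjective ⊓ @Flat ⊓ @QuasiCompact)]
    {S' : Scheme.{u}} (f : S' ⟶ S) [Flat f] [Surjective f]
    (hc : ∀ V : S.Opens, IsAffineOpen V → ∃ W : S'.Opens, IsCompact (W : Set S') ∧
      f.base '' (W : Set S') = (V : Set S))
    (H : ∀ s' : S', ∃ (W : Scheme.{u}) (w : W ⟶ S') (_ : Flat w) (_ : LocallyOfFinitePresentation w)
      (_ : s' ∈ Set.range w) (E : Over W), P E.hom ∧ Mor2.IsQuasiAffine E.hom ∧
      Nonempty ((restr (w ≫ f) F).RepresentableBy E)) :
    ∃ E : Over S, P E.hom ∧ Nonempty (F.RepresentableBy E) := by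
  choose W w h1 h2 h3 E hP hQ hE using H
  let c : (∐ W) ⟶ S' := Sigma.desc w
  have hι : ∀ j, Sigma.ι W j ≫ c = w j := fun j => Sigma.ι_desc _ _
  have hcf : Flat c := inferInstanceAs (Flat (Sigma.desc fun j => w j))
  have hcl : LocallyOfFinitePresentation c :=
    IsZariskiLocalAtSource.sigmaDesc (P := @LocallyOfFinitePresentation) h2
  have hcs : Surjective c := by
    apply Surjective.sigmaDesc_of_union_range_eq_univ
    rw [Set.eq_univ_iff_forall]
    intro s
    exact Set.mem_iUnion.mpr ⟨s, h3 s⟩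
  have hco : IsOpenMap c.base := c.isOpenMap
  refine FpqcRep.exists_rep_of_fpqcCover F hZ hF P (c ≫ f) (qc_cover_comp f c hco hc) fun x => ?_
  obtain ⟨⟨j, y⟩, rfl⟩ := (sigmaMk W).surjective x
  rw [sigmaMk_mk]
  let U : (∐ W).Opens := (Sigma.ι W j).opensRange
  let r : U.toScheme ⟶ W j := (Sigma.ι W j).isoOpensRange.inv
  have hr : r ≫ Sigma.ι W j = U.ι := (Sigma.ι W j).isoOpensRange_inv_comp
  refine ⟨U, ⟨y, rfl⟩, (Over.pullback r).obj (E j), ?_, ?_, ⟨?_⟩⟩
  · exact MorphismProperty.pullback_snd (P := P) _ _ (hP j)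
  · exact MorphismProperty.pullback_snd (P := QAff) _ _ (hQ j)
  · refine (pullRep r (hE j).some).ofIso (restrCompIso ?_ F)
    rw [← hι, Category.assoc, ← Category.assoc, hr]

end Groth.Agent.Sga3.H828.FpqcRep2
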