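import Groth.Agent.Sga3.H828.MTDesc
import Groth.Agent.Sga3.H828.FpqcRep
import Groth.Prelude.Def_SGA3x

/-!
# The functor of maximal tori

`G` over `S` with `Hyp G`: maximal tori of base changes of `G` are closed, and stay maximal tori after base
change.

* `mtF G hG : (Over S)ᵒᵖ ⥤ Type u`: the functor of maximal tori, as ideals on `G ×_S T`.
* `isZarSheaf_mtF`, `isDesc_mtF`: it is a Zariski sheaf, and satisfies the sheaf condition for flat surjective
  quasi-compact morphisms.
-/

set_option autoImplicit false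
set_option backward.isDefEq.respectTransparency false
universe u
open CategoryTheory MonoidalCategory CartesianMonoidalCategory MonObj GrpObj AlgebraicGeometry Limits Opposite

namespace Groth.Agent.Sga3.H828.MTFun

open Groth.Agent.Sga3B Groth.Agent.Sga3B.MT Groth.Agent.Sga3B.RedIso
  Groth.Agent.Picfga.HilbPull Groth.Agent.Picfga.HilbZar Groth.Agent.Picfga.HilbFpqc
  Groth.Agent.Picfga.IdealGlue Groth.Agent.Picfga.IdealDescent
  Groth.Agent.Picfga.OverRep Groth.Agent.Desc.SecPresheaf Groth.Agent.Desc.SecFunctor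
  Groth.Agent.Sga3.H828.MTIdeal Groth.Agent.Sga3.H828.MTDesc

variable {S : Scheme.{u}}

/-- Maximal tori of base changes of `G` are closed and stable under base change. -/
structure Hyp (G : Over S) [GrpObj G] : Prop where
  /-- maximal tori are closed -/
  closed : ∀ {S' : Scheme.{u}} (f : S' ⟶ S) (T : Over S') [GrpObj T] (i : T ⟶ Red.bc f G),
    Red.IsMaximalTorus i → IsClosedImmersion i.left
  /-- maximal tori are stable under base change -/
  bc : ∀ {S' S'' : Scheme.{u}} (f : S' ⟶ S) (q : S'' ⟶ S') (T : Over S') [GrpObj T]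
    (i : T ⟶ Red.bc f G), Red.IsMaximalTorus i → Red.IsMaximalTorus ((Over.pullback q).map i)

variable {G : Over S} [GrpObj G]

lemma Hyp.isMT_pull (hG : Hyp G) {T' T : Over S} (g : T' ⟶ T) {I : (PicF.XT G.hom T).IdealSheafData}
    (h : IsMT G T I) : IsMT G T' (I.comap (PicF.XTmap G.hom g)) := by
  refine over_cases (motive := fun T' k => IsMT G T' (I.comap (PicF.XTmap G.hom k))) ?_ T' g
  intro Z q
  obtain ⟨H, _, t, ht, hcl, rfl⟩ := h
  exact ⟨Red.bc q H, inferInstance, bcSub q t,
    (isMaximalTorus_bcSub_iff q t).2 (hG.bc T.hom q H t ht), isClosedImmersion_bcSub q t, ker_bcSub q t⟩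

variable (G) in
/-- The functor of maximal tori of `G`. -/
noncomputable def mtF (hG : Hyp G) : (Over S)ᵒᵖ ⥤ Type u where
  obj T := {I : (PicF.XT G.hom T.unop).IdealSheafData // IsMT G T.unop I}
  map g := ↾fun x => ⟨x.1.comap (PicF.XTmap G.hom g.unop), hG.isMT_pull g.unop x.2⟩
  map_id T := by
    refine ConcreteCategory.hom_ext _ _ fun x => Subtype.ext ?_
    change x.1.comap (PicF.XTmap G.hom (𝟙 T.unop)) = x.1
    rw [XTmap_id, Scheme.IdealSheafData.comap_id]
  map_comp a b := by
    refine ConcreteCategory.hom_ext _ _ fun x => Subtype.ext ?_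
    change x.1.comap (PicF.XTmap G.hom (b.unop ≫ a.unop)) =
      (x.1.comap (PicF.XTmap G.hom a.unop)).comap (PicF.XTmap G.hom b.unop)
    rw [XTmap_comp, Scheme.IdealSheafData.comap_comp]

lemma mtF_map_val (hG : Hyp G) {T T' : Over S} (g : T' ⟶ T) (x : (mtF G hG).obj (op T)) :
    ((mtF G hG).map g.op x).1 = x.1.comap (PicF.XTmap G.hom g) := rfl

/-- The functor of maximal tori is a Zariski sheaf. -/
theorem isZarSheaf_mtF (hG : Hyp G) : IsZarSheaf (mtF G hG) := by
  intro T 𝒰 x hx
  have hcov : ∀ y : PicF.XT G.hom T, ∃ (i : 𝒰.ι) (u : PicF.XT G.hom (𝒰.V i)),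
      PicF.XTmap G.hom (𝒰.j i) u = y := by
    intro y
    obtain ⟨i, v, hv⟩ := 𝒰.covers (PicF.XTproj G.hom T y)
    obtain ⟨z, hz⟩ := exists_XTmap_eq (𝒰.j i) y v hv
    exact ⟨i, z, hz⟩
  obtain ⟨J, hJ, hJ'⟩ := exists_unique_glue_family (fun i => PicF.XT G.hom (𝒰.V i))
    (fun i => PicF.XTmap G.hom (𝒰.j i)) hcov (fun i => (x i).1) (by
      intro i k
      obtain ⟨W, a, b, l, hab, hl1, hl2⟩ := exists_lift_XT (f := G.hom) (𝒰.j i) (𝒰.j k)
      have h1 : (x i).1.comap (PicF.XTmap G.hom a) = (x k).1.comap (PicF.XTmap G.hom b) :=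
        congrArg Subtype.val (hx i k W a b hab)
      rw [← hl1, ← hl2, Scheme.IdealSheafData.comap_comp, Scheme.IdealSheafData.comap_comp, h1])
  have hJd : IsMT G T J := by
    refine isMT_of_open 𝒰.j 𝒰.isOpen (fun t => ?_) J fun i => ?_
    · obtain ⟨i, v, hv⟩ := 𝒰.covers t
      exact ⟨i, v, hv⟩
    · rw [hJ i]
      exact (x i).2
  refine ⟨⟨J, hJd⟩, fun i => Subtype.ext (hJ i), fun y hy => Subtype.ext ?_⟩
  exact hJ' _ fun i => congrArg Subtype.val (hy i)

/-- The sheaf condition for flat surjective quasi-compact morphisms. -/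
theorem isDesc_mtF (hG : Hyp G) {T' T : Over S} (g : T' ⟶ T) [Flat g.left] [Surjective g.left]
    [QuasiCompact g.left] : IsDesc (mtF G hG) g := by
  have Hp := isPullback_XTmap G.hom g
  have p1 : Flat (PicF.XTmap G.hom g) := MorphismProperty.of_isPullback Hp.flip inferInstance
  have p2 : Surjective (PicF.XTmap G.hom g) := MorphismProperty.of_isPullback Hp.flip inferInstance
  have p3 : QuasiCompact (PicF.XTmap G.hom g) := MorphismProperty.of_isPullback Hp.flip inferInstance
  constructor
  · intro a b hab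
    apply Subtype.ext
    exact comap_injective_of_fpqc (PicF.XTmap G.hom g) (congrArg Subtype.val hab)
  · intro a ha
    let R : Over S := Over.mk (pullback.fst g.left g.left ≫ T'.hom)
    let r₀ : R ⟶ T' := Over.homMk (pullback.fst g.left g.left) rfl
    let r₁ : R ⟶ T' := Over.homMk (pullback.snd g.left g.left) (by
      change pullback.snd g.left g.left ≫ T'.hom = pullback.fst g.left g.left ≫ T'.hom
      rw [← Over.w g, ← Category.assoc, ← pullback.condition, Category.assoc])
    have hR : r₀ ≫ g = r₁ ≫ g := by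
      ext1
      exact pullback.condition
    have HR : IsPullback (PicF.XTmap G.hom r₀) (PicF.XTmap G.hom r₁) (PicF.XTmap G.hom g)
        (PicF.XTmap G.hom g) :=
      isPullback_XTmap_of_isPullback G.hom (IsPullback.of_hasPullback g.left g.left)
    have h1 : a.1.comap (PicF.XTmap G.hom r₀) = a.1.comap (PicF.XTmap G.hom r₁) :=
      congrArg Subtype.val (ha R r₀ r₁ hR)
    have hdesc := comap_map_eq_of_descent HR a.1 h1
    refine ⟨⟨a.1.map (PicF.XTmap G.hom g), isMT_of_fpqc g _ ?_⟩, Subtype.ext hdesc⟩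
    rw [hdesc]
    exact a.2

end Groth.Agent.Sga3.H828.MTFun
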