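import Groth.Agent.Sga3.H828.MTMain
import Groth.Agent.Sga3.H784.FieldExt
import Groth.Agent.Sga3B.TorClosed636

/-!
# Maximal tori are stable under arbitrary base change

* `isMaximalTorus_bc`: `G` locally of finite type over any base `S` (not necessarily affine, separated, smooth, ...):
  maximal tori are stable under arbitrary base change.
* `isMaximalTorus_bc_iff`: and this can be checked after an fpqc covering.
* `hyp_of_affine`: the hypotheses `MTFun.Hyp` for `G` affine and locally of finite type.
-/

set_option autoImplicit false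
universe u
open CategoryTheory MonoidalCategory CartesianMonoidalCategory MonObj GrpObj AlgebraicGeometry Limits

namespace Groth.Agent.Sga3.H828.MTHyp

open Groth.Agent.Sga3B Groth.Agent.Sga3B.AlgBc Groth.Agent.Sga3B.BcNat Groth.Agent.Sga3B.RedIso
  Groth.Agent.Sga3.H828.MTFun

variable {S S' : Scheme.{u}}

/-- **Maximal tori are stable under arbitrary base change.** -/
theorem isMaximalTorus_bc (q : S' ⟶ S) {T G : Over S} [GrpObj T] [GrpObj G]
    [LocallyOfFiniteType G.hom] {i : T ⟶ G} (h : Red.IsMaximalTorus i) :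
    Red.IsMaximalTorus ((Over.pullback q).map i) := by
  have h1 : IsMonHom i := h.1
  have h2 : Mono i := h.2.1
  refine ⟨inferInstance, inferInstance, TorusBc.isTorus_bc q h.2.2.1, fun s' => ?_⟩
  obtain ⟨θ, hθ⟩ := MTGeom.exists_geomPt q s'
  have h3 : Red.IsMaximalTorus ((Over.pullback (Red.geomPt (q s'))).map i) :=
    AlgBc.isMaximalTorus_bc (Red.geomPt (q s')) h
  have hl : LocallyOfFiniteType (Red.bc (Red.geomPt (q s')) G).hom :=
    inferInstanceAs (LocallyOfFiniteType (pullback.snd G.hom (Red.geomPt (q s'))))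
  have h4 : Red.IsMaximalTorus ((Over.pullback θ).map ((Over.pullback (Red.geomPt (q s'))).map i)) :=
    (Sga3.H784.FieldExt.isMaximalTorus_pullback_iff θ _ h3.1 h3.2.2.1).2 h3
  have h5 : IsMaxTorOver ((Over.pullback θ).map ((Over.pullback (Red.geomPt (q s'))).map i)) :=
    (isMaximalTorus_iff.1 h4).2.2.2
  exact isMaxTorOver_of_arrow (fibIso hθ T).symm (fibIso hθ G).symm (fib_arrow hθ i) h5

/-- Base change along an fpqc covering. -/
theorem isMaximalTorus_bc_iff (f : S' ⟶ S) [Flat f] [Surjective f]
    (hc : ∀ V : S.Opens, IsAffineOpen V → ∃ W : S'.Opens, IsCompact (W : Set S') ∧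
      f.base '' (W : Set S') = (V : Set S)) {T G : Over S} [GrpObj T] [GrpObj G]
    [LocallyOfFiniteType G.hom] {i : T ⟶ G} [IsMonHom i] [Mono i] :
    Red.IsMaximalTorus ((Over.pullback f).map i) ↔ Red.IsMaximalTorus i :=
  ⟨MTGeom.isMaximalTorus_of_fpqcCover f hc i inferInstance inferInstance, isMaximalTorus_bc f⟩

/-- The hypotheses for `G` such that maximal tori are closed. -/
theorem hyp_of_closed (G : Over S) [GrpObj G] [LocallyOfFiniteType G.hom]
    (h : ∀ {S' : Scheme.{u}} (f : S' ⟶ S) (T : Over S') [GrpObj T] (i : T ⟶ Red.bc f G),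
      Red.IsMaximalTorus i → IsClosedImmersion i.left) : Hyp G where
  closed f T _ i hi := h f T i hi
  bc f q T _ i hi := by
    have hl : LocallyOfFiniteType (Red.bc f G).hom :=
      inferInstanceAs (LocallyOfFiniteType (pullback.snd G.hom f))
    exact isMaximalTorus_bc q hi

/-- The hypotheses for `G` affine. -/
theorem hyp_of_affine (G : Over S) [GrpObj G] [IsAffineHom G.hom] [LocallyOfFiniteType G.hom] : Hyp G :=
  hyp_of_closed G fun f T _ i hi => by
    have h1 : IsAffineHom (Red.bc f G).hom :=
      MorphismProperty.pullback_snd (P := @IsAffineHom) _ _ inferInstance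
    have h2 : IsMonHom i := hi.1
    have h3 : Mono i := hi.2.1
    exact TorClosed636.isClosedImmersion_of_isTorus i hi.2.2.1

end Groth.Agent.Sga3.H828.MTHyp
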