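import Groth.Agent.Picfga.HilbFpqc
import Groth.Agent.Picfga.HilbZar
import Groth.Agent.Sga3B.MT.MemOps

/-!
# Closed subschemes of base changes and their ideals

For `t : T ⟶ bc f G` with `t.left` a closed immersion, the ideal of `t` is `t.left.ker`.

* `ker_eq_iff`: two closed subschemes have the same ideal iff they are isomorphic over the ambient scheme.
* `ker_bcSub`: the ideal of the base change `MT.bcSub q t` is the inverse image of the ideal of `t`.
* `exists_grpIso`: two subgroups (monomorphisms) which are isomorphic over the ambient group are isomorphic as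
  groups.
* `over_cases`: morphisms `T' ⟶ T` in `Over S` may be assumed to be of the form `Over.mk (q ≫ T.hom) ⟶ T`.
-/

set_option autoImplicit false
universe u
open CategoryTheory MonoidalCategory CartesianMonoidalCategory MonObj GrpObj AlgebraicGeometry Limits

namespace Groth.Agent.Sga3.H828.MTIdeal

open Groth.Agent.Sga3B Groth.Agent.Sga3B.MT Groth.Agent.Sga3B.Parab Groth.Agent.Picfga.HilbPull

variable {S S' S'' : Scheme.{u}}

/-- Base change for kernels of closed immersions. -/
lemma ker_comap_of_isPullback {X X' Y Y' : Scheme.{u}} {f' : X' ⟶ Y'} {g' : X' ⟶ X} {f : X ⟶ Y}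
    {g : Y' ⟶ Y} (H : IsPullback g' f' f g) [IsClosedImmersion f] : f.ker.comap g = f'.ker := by
  rw [← Scheme.IdealSheafData.ker_fst_of_isClosedImmersion]
  have h1 : H.flip.isoPullback.hom ≫ pullback.fst g f = f' := H.flip.isoPullback_hom_fst
  rw [← h1, Scheme.Hom.ker_comp_of_isIso]

section over

variable {X T₁ T₂ : Over S}

lemma exists_hom_of_ker_le (t₁ : T₁ ⟶ X) (t₂ : T₂ ⟶ X) [IsClosedImmersion t₂.left]
    (h : t₂.left.ker ≤ t₁.left.ker) : ∃ e : T₁ ⟶ T₂, e ≫ t₂ = t₁ := by
  have h1 : IsClosedImmersion.lift t₂.left t₁.left h ≫ t₂.left = t₁.left :=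
    IsClosedImmersion.lift_fac _ _ _
  refine ⟨Over.homMk (IsClosedImmersion.lift t₂.left t₁.left h) ?_, ?_⟩
  · rw [← Over.w t₂, ← Category.assoc, h1, Over.w]
  · ext1
    exact h1

lemma ker_le_of_hom (t₁ : T₁ ⟶ X) (t₂ : T₂ ⟶ X) (e : T₁ ⟶ T₂) (he : e ≫ t₂ = t₁) :
    t₂.left.ker ≤ t₁.left.ker := by
  rw [← he, Over.comp_left]
  exact Scheme.Hom.le_ker_comp _ _

/-- Two closed subschemes have the same ideal iff they are isomorphic over the ambient scheme. -/
lemma ker_eq_iff (t₁ : T₁ ⟶ X) (t₂ : T₂ ⟶ X) [IsClosedImmersion t₁.left] [IsClosedImmersion t₂.left] :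
    t₁.left.ker = t₂.left.ker ↔ ∃ e : T₁ ≅ T₂, e.hom ≫ t₂ = t₁ := by
  have m1 : Mono t₁ := Sga3C.ClosedSub.mono_of_left t₁
  have m2 : Mono t₂ := Sga3C.ClosedSub.mono_of_left t₂
  constructor
  · intro h
    obtain ⟨a, ha⟩ := exists_hom_of_ker_le t₁ t₂ h.ge
    obtain ⟨b, hb⟩ := exists_hom_of_ker_le t₂ t₁ h.le
    exact ⟨⟨a, b, by rw [← cancel_mono t₁, Category.assoc, hb, ha, Category.id_comp],
      by rw [← cancel_mono t₂, Category.assoc, ha, hb, Category.id_comp]⟩, ha⟩
  · rintro ⟨e, he⟩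
    refine le_antisymm (ker_le_of_hom t₂ t₁ e.inv ?_) (ker_le_of_hom t₁ t₂ e.hom he)
    rw [← he, Iso.inv_hom_id_assoc]

end over

/-- Two subgroups which are isomorphic over the ambient group are isomorphic as groups. -/
lemma exists_grpIso {A B G : Over S} [GrpObj A] [GrpObj B] [GrpObj G] (a : A ⟶ G) [IsMonHom a]
    (b : B ⟶ G) [IsMonHom b] [Mono b] (e : A ≅ B) (he : e.hom ≫ b = a) :
    ∃ e' : Grp.mk A ≅ Grp.mk B, (RedIso.und e').hom = e.hom := by
  have hmon : IsMonHom e.hom := Pts.isMonHom_of_points e.hom fun X x y => by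
    rw [← cancel_mono b]
    simp only [Category.assoc, he, MonObj.mul_comp]
  exact ⟨Grp.mkIso' e, rfl⟩

/-- Morphisms to `T` in `Over S` may be assumed to be of the form `Over.mk (q ≫ T.hom) ⟶ T`. -/
lemma over_cases {T : Over S} {motive : ∀ (T' : Over S), (T' ⟶ T) → Prop}
    (h : ∀ (Z : Scheme.{u}) (q : Z ⟶ T.left), motive (Over.mk (q ≫ T.hom)) (Over.homMk q))
    (T' : Over S) (g : T' ⟶ T) : motive T' g := by
  have key : ∀ (l : Scheme.{u}) (hom : l ⟶ S) (q : l ⟶ T.left) (w : q ≫ T.hom = hom),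
      motive (Over.mk hom) (Over.homMk q w) := by
    rintro l _ q rfl
    exact h l q
  exact key T'.left T'.hom g.left (Over.w g)

/-- the morphism `Over.mk (q ≫ f) ⟶ Over.mk f`. -/
noncomputable abbrev om (q : S'' ⟶ S') (f : S' ⟶ S) : Over.mk (q ≫ f) ⟶ Over.mk f := Over.homMk q rfl

variable {f : S' ⟶ S} {G : Over S} {T : Over S'}

lemma isPullback_bcSub (q : S'' ⟶ S') (t : T ⟶ Red.bc f G) :
    IsPullback (pullback.fst T.hom q) (bcSub q t).left t.left (PicF.XTmap G.hom (om q f)) := by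
  have h1 := isPullback_XTmap G.hom (om q f)
  have e1 : t.left ≫ PicF.XTproj G.hom (Over.mk f) = T.hom := Over.w t
  have e2 : (bcSub q t).left ≫ PicF.XTproj G.hom (Over.mk (q ≫ f)) = pullback.snd T.hom q :=
    Over.w (bcSub q t)
  refine IsPullback.of_bot (h₃₁ := q) (v₂₁ := PicF.XTproj G.hom (Over.mk (q ≫ f)))
    (v₂₂ := PicF.XTproj G.hom (Over.mk f)) ?_ ?_ h1
  · rw [e1, e2]
    exact IsPullback.of_hasPullback T.hom q
  · apply pullback.hom_ext
    · have h2 := XTmap_fst G.hom (om q f)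
      have h3 := bcSub_fst q t
      rw [Category.assoc, Category.assoc]
      exact (h3.symm.trans (congrArg ((bcSub q t).left ≫ ·) h2.symm))
    · have h2 := XTmap_snd G.hom (om q f)
      rw [Category.assoc, Category.assoc]
      refine Eq.trans ?_ (congrArg ((bcSub q t).left ≫ ·) h2.symm)
      refine (congrArg (pullback.fst T.hom q ≫ ·) e1).trans ?_
      refine Eq.trans ?_ (Category.assoc _ _ _)
      exact pullback.condition.trans (congrArg (· ≫ q) e2.symm)

/-- The ideal of the base change of a closed subscheme. -/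
lemma ker_bcSub (q : S'' ⟶ S') (t : T ⟶ Red.bc f G) [IsClosedImmersion t.left] :
    (bcSub q t).left.ker = t.left.ker.comap (PicF.XTmap G.hom (om q f)) :=
  (ker_comap_of_isPullback (isPullback_bcSub q t)).symm

end Groth.Agent.Sga3.H828.MTIdeal
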