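import Groth.Agent.Sga3.H828.MTFun

/-!
# Descent of the representability of the functor of maximal tori

* `representsMaxTori_iff`, `exists_representableBy`, `exists_representsMaxTori`: dictionary between
  `SGA3x.RepresentsMaxTori G 𝒯 Tu iu` and `(mtF G hG).RepresentableBy 𝒯`.
* `restrIso`: `restr q (mtF G) ≅ mtF (bc q G)`.
* `exists_representsMaxTori_of_fpqcCover`: **descent of representability along an fpqc covering**.
* `representsMaxTori_bc`, `nonempty_iso_bc`: base change, and uniqueness, of the representing object.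
-/

set_option autoImplicit false
set_option backward.isDefEq.respectTransparency false
universe u
open CategoryTheory MonoidalCategory CartesianMonoidalCategory MonObj GrpObj AlgebraicGeometry Limits Opposite

namespace Groth.Agent.Sga3.H828.MTRep

open Groth.Agent.Sga3B Groth.Agent.Sga3B.MT Groth.Agent.Sga3B.RedIso
  Groth.Agent.Picfga.HilbPull Groth.Agent.Picfga.OverRep Groth.Agent.Desc.SecPresheaf
  Groth.Agent.Desc.SecFunctor Groth.Agent.Desc.SecDescent Groth.Agent.Desc.ZarGlue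
  Groth.Agent.Sga3.H828.MTIdeal Groth.Agent.Sga3.H828.MTDesc Groth.Agent.Sga3.H828.MTFun

variable {S : Scheme.{u}}

section same

variable {G 𝒯 : Over S} {Tu : Over 𝒯.left} (iu : Tu ⟶ Red.bc 𝒯.hom G)

/-- the two subschemes `T'` and `bc v Tu` of `G ×_S S'` agree (as in `SGA3x.RepresentsMaxTori`) -/
def Same {S' : Scheme.{u}} (f : S' ⟶ S) {T' : Over S'} (i' : T' ⟶ Red.bc f G) (v : S' ⟶ 𝒯.left) : Prop :=
  ∃ φ : T'.left ≅ (Red.bc v Tu).left,
    φ.hom ≫ (Red.bc v Tu).hom = T'.hom ∧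
    φ.hom ≫ ((Over.pullback v).map iu).left ≫ pullback.fst (Red.bc 𝒯.hom G).hom v ≫
      pullback.fst G.hom 𝒯.hom = i'.left ≫ pullback.fst G.hom f

lemma map_left_fst_fst {S' : Scheme.{u}} (v : S' ⟶ 𝒯.left) :
    ((Over.pullback v).map iu).left ≫ pullback.fst (Red.bc 𝒯.hom G).hom v ≫ pullback.fst G.hom 𝒯.hom =
      (bcSub v iu).left ≫ pullback.fst G.hom (v ≫ 𝒯.hom) := by
  rw [bcSub_fst]
  have h := (Groth.Agent.Sga3.H798.FpqcIso.isPullback_map_left v iu).w
  rw [← Category.assoc, ← h, Category.assoc]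

lemma same_iff [IsClosedImmersion iu.left] {S' : Scheme.{u}} (v : S' ⟶ 𝒯.left) {T' : Over S'}
    (i' : T' ⟶ Red.bc (v ≫ 𝒯.hom) G) [IsClosedImmersion i'.left] :
    Same iu (v ≫ 𝒯.hom) i' v ↔ iu.left.ker.comap (PicF.XTmap G.hom (om v 𝒯.hom)) = i'.left.ker := by
  have hcl : IsClosedImmersion (bcSub v iu).left := isClosedImmersion_bcSub v iu
  rw [← ker_bcSub, eq_comm, ker_eq_iff]
  constructor
  · rintro ⟨φ, h1, h2⟩
    rw [map_left_fst_fst] at h2
    refine ⟨Over.isoMk φ h1, ?_⟩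
    ext1
    apply pullback.hom_ext
    · rw [← h2]
      exact Category.assoc _ _ _
    · have e1 : (bcSub v iu).left ≫ pullback.snd G.hom (v ≫ 𝒯.hom) = (Red.bc v Tu).hom :=
        Over.w (bcSub v iu)
      have e2 : i'.left ≫ pullback.snd G.hom (v ≫ 𝒯.hom) = T'.hom := Over.w i'
      rw [e2, ← h1, ← e1]
      exact Category.assoc _ _ _
  · rintro ⟨e, he⟩
    refine ⟨(Over.forget _).mapIso e, Over.w e.hom, ?_⟩
    rw [map_left_fst_fst, ← he]
    exact (Category.assoc _ _ _).symm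

end same

variable {G : Over S} [GrpObj G]

/-- The element of the functor of maximal tori attached to a maximal torus. -/
noncomputable def elt (hG : Hyp G) {X : Over S} {T : Over X.left} [GrpObj T] (i : T ⟶ Red.bc X.hom G)
    (hi : Red.IsMaximalTorus i) : (mtF G hG).obj (op X) :=
  ⟨i.left.ker, T, inferInstance, i, hi, hG.closed X.hom T i hi, rfl⟩

lemma map_elt_eq_iff (hG : Hyp G) {𝒯 : Over S} {Tu : Over 𝒯.left} [GrpObj Tu]
    (iu : Tu ⟶ Red.bc 𝒯.hom G) (hiu : Red.IsMaximalTorus iu) {S' : Scheme.{u}} (f : S' ⟶ S)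
    {T' : Over S'} [GrpObj T'] (i' : T' ⟶ Red.bc f G) (hi' : Red.IsMaximalTorus i')
    (g : Over.mk f ⟶ 𝒯) :
    (mtF G hG).map g.op (elt hG iu hiu) = elt (X := Over.mk f) hG i' hi' ↔ Same iu f i' g.left := by
  obtain ⟨v, rfl, rfl⟩ : ∃ (v : S' ⟶ 𝒯.left) (hv : v ≫ 𝒯.hom = f), g = Over.homMk v hv :=
    ⟨g.left, Over.w g, rfl⟩
  have h1 : IsClosedImmersion iu.left := hG.closed _ _ _ hiu
  have h2 : IsClosedImmersion i'.left := hG.closed _ _ _ hi'
  refine Iff.trans ?_ (same_iff iu v i').symm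
  exact Subtype.ext_iff

/-- `SGA3x.RepresentsMaxTori` says that the element of the functor of maximal tori is universal. -/
theorem representsMaxTori_iff (hG : Hyp G) {𝒯 : Over S} {Tu : Over 𝒯.left} [GrpObj Tu]
    (iu : Tu ⟶ Red.bc 𝒯.hom G) : SGA3x.RepresentsMaxTori G 𝒯 Tu iu ↔
      ∃ h : Red.IsMaximalTorus iu, ∀ (X : Over S) (x : (mtF G hG).obj (op X)),
        ∃! g : X ⟶ 𝒯, (mtF G hG).map g.op (elt hG iu h) = x := by
  constructor
  · rintro ⟨h, H⟩
    refine ⟨h, fun X x => ?_⟩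
    obtain ⟨I, T', gT', i', hi', hcl, rfl⟩ := x
    obtain ⟨v, ⟨hv, hs⟩, huniq⟩ := H X.left X.hom T' i' hi'
    refine ⟨(Over.homMk v hv : X ⟶ 𝒯), ?_, fun g hg => ?_⟩
    · exact (map_elt_eq_iff hG iu h X.hom i' hi' (Over.homMk v hv)).2 hs
    · ext1
      exact huniq g.left ⟨Over.w g, (map_elt_eq_iff hG iu h X.hom i' hi' g).1 hg⟩
  · rintro ⟨h, H⟩
    refine ⟨h, fun S' f T' _ i' hi' => ?_⟩
    obtain ⟨g, hg, huniq⟩ := H (Over.mk f) (elt (X := Over.mk f) hG i' hi')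
    refine ⟨g.left, ⟨Over.w g, (map_elt_eq_iff hG iu h f i' hi' g).1 hg⟩, ?_⟩
    rintro v ⟨hv, hs⟩
    exact congrArg (fun k => k.left) (huniq (Over.homMk v hv)
      ((map_elt_eq_iff hG iu h f i' hi' (Over.homMk v hv)).2 hs))

/-- From `SGA3x.RepresentsMaxTori` to representability. -/
noncomputable def representableBy (hG : Hyp G) {𝒯 : Over S} {Tu : Over 𝒯.left} [GrpObj Tu]
    {iu : Tu ⟶ Red.bc 𝒯.hom G} (h : SGA3x.RepresentsMaxTori G 𝒯 Tu iu) :
    (mtF G hG).RepresentableBy 𝒯 :=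
  repOfUniversal (elt hG iu h.1) ((representsMaxTori_iff hG iu).1 h).2

/-- From representability to `SGA3x.RepresentsMaxTori`. -/
theorem exists_representsMaxTori (hG : Hyp G) {𝒯 : Over S} (e : (mtF G hG).RepresentableBy 𝒯) :
    ∃ (Tu : Over 𝒯.left) (_ : GrpObj Tu) (iu : Tu ⟶ Red.bc 𝒯.hom G),
      SGA3x.RepresentsMaxTori G 𝒯 Tu iu := by
  obtain ⟨Tu, gTu, iu, hiu, hcl, hker⟩ := (e.homEquiv (𝟙 𝒯)).2
  refine ⟨Tu, gTu, iu, (representsMaxTori_iff hG iu).2 ⟨hiu, fun X x => ?_⟩⟩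
  have hel : elt hG iu hiu = e.homEquiv (𝟙 𝒯) := Subtype.ext hker
  have hmap : ∀ g : X ⟶ 𝒯, (mtF G hG).map g.op (elt hG iu hiu) = e.homEquiv g := fun g => by
    rw [hel, ← e.homEquiv_comp, Category.comp_id]
  refine ⟨e.homEquiv.symm x, ?_, fun g hg => ?_⟩
  · exact (hmap _).trans (e.homEquiv.apply_symm_apply x)
  · rw [← hg, hmap, Equiv.symm_apply_apply]

end Groth.Agent.Sga3.H828.MTRep
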