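import Groth.Agent.Sga3.H828.FpqcRep2
import Groth.Agent.Sga3.H828.MTMain
import Groth.Agent.Sga3.H828.MTHyp
import Groth.Agent.Sga3.H813.ConjToBy
import Groth.Agent.S4116

/-!
# S4132 from the local statement

* `exists_representsMaxTori_of_fpqcCover'`: descent of the representability of the functor of maximal tori along an
  fpqc covering, with a flat-local hypothesis.
* `exists_conjTo`: maximal tori of base changes of a smooth affine group are étale-locally conjugate to a given one.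
* `LOC`, `of_loc`: S4132 from the existence of the quotient of `G` by the normaliser of a split maximal torus over an
  affine base.
-/

set_option autoImplicit false
set_option backward.isDefEq.respectTransparency false
universe u
open CategoryTheory MonoidalCategory CartesianMonoidalCategory MonObj GrpObj AlgebraicGeometry Limits Opposite

namespace Groth.Agent.Sga3.H828.S4132Of

open Groth.Agent.Sga3B Groth.Agent.Desc.SecFunctor Groth.Agent.Desc.SecDescent
  Groth.Agent.Sga3.H828.MTFun Groth.Agent.Sga3.H828.MTRep Groth.Agent.Sga3.H828.MTMain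
  Groth.Agent.Sga3.H813 Groth.Agent.Sga3.H813.RepCrit

variable {S : Scheme.{u}} {G : Over S} [GrpObj G]

/-- **Descent of the representability of the functor of maximal tori along an fpqc covering**, flat-local version. -/
theorem exists_representsMaxTori_of_fpqcCover' (hG : Hyp G) (P : MorphismProperty Scheme.{u})
    [IsZariskiLocalAtTarget P] [P.IsStableUnderBaseChange]
    [P.DescendsAlong (@Surjective ⊓ @Flat ⊓ @QuasiCompact)]
    {S' : Scheme.{u}} (f : S' ⟶ S) [Flat f] [Surjective f]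
    (hc : ∀ V : S.Opens, IsAffineOpen V → ∃ W : S'.Opens, IsCompact (W : Set S') ∧
      f.base '' (W : Set S') = (V : Set S))
    (H : ∀ s' : S', ∃ (W : Scheme.{u}) (w : W ⟶ S') (_ : Flat w) (_ : LocallyOfFinitePresentation w)
      (_ : s' ∈ Set.range w) (𝒯 : Over W) (Tu : Over 𝒯.left)
      (_ : GrpObj Tu) (iu : Tu ⟶ Red.bc 𝒯.hom (Red.bc (w ≫ f) G)),
      SGA3x.RepresentsMaxTori (Red.bc (w ≫ f) G) 𝒯 Tu iu ∧ P 𝒯.hom ∧ Mor2.IsQuasiAffine 𝒯.hom) :
    ∃ (𝒯 : Over S) (Tu : Over 𝒯.left) (_ : GrpObj Tu) (iu : Tu ⟶ Red.bc 𝒯.hom G),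
      SGA3x.RepresentsMaxTori G 𝒯 Tu iu ∧ P 𝒯.hom := by
  obtain ⟨𝒯, hP, ⟨e⟩⟩ := FpqcRep2.exists_rep_of_fpqcCover' (mtF G hG) (isZarSheaf_mtF hG)
    (fun g h1 h2 h3 => isDesc_mtF hG g) P f hc fun s' => by
      obtain ⟨W, w, h1, h2, h3, 𝒯, Tu, _, iu, h, hP, hQ⟩ := H s'
      exact ⟨W, w, h1, h2, h3, 𝒯, hP, hQ,
        ⟨(representableBy (Hyp.pull _ hG) h).ofIso (restrIso _ hG).symm⟩⟩
  obtain ⟨Tu, gTu, iu, h⟩ := exists_representsMaxTori hG e
  exact ⟨𝒯, Tu, gTu, iu, h, hP⟩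

/-- **Maximal tori of a smooth affine group are conjugate étale-locally.** -/
theorem exists_conjTo [IsAffineHom G.hom] [Smooth G.hom] {T : Over S} [GrpObj T] (i : T ⟶ G)
    (hi : Red.IsMaximalTorus i) (S' : Scheme.{u}) (f : S' ⟶ S) (T' : Over S') [GrpObj T']
    (i' : T' ⟶ Red.bc f G) (hi' : Red.IsMaximalTorus i') :
    ∃ (S'' : Scheme.{u}) (c : S'' ⟶ S') (_ : Flat c) (_ : Surjective c)
      (_ : LocallyOfFinitePresentation c) (g : Over.mk (c ≫ f) ⟶ G), ConjTo i i' c g := by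
  have h1 : IsAffineHom (Red.bc f G).hom :=
    MorphismProperty.pullback_snd (P := @IsAffineHom) _ _ inferInstance
  have h2 : Smooth (Red.bc f G).hom := inferInstanceAs (Smooth (pullback.snd G.hom f))
  have hif : Red.IsMaximalTorus ((Over.pullback f).map i) := MTHyp.isMaximalTorus_bc f hi
  obtain ⟨S'', c, hc1, hc2, g, hg⟩ := S4116.result S' (Red.bc f G) (Red.bc f T) T'
    ((Over.pullback f).map i) i' hif hi'
  exact ⟨S'', c, inferInstance, hc2, inferInstance, _, ConjToBy.conjTo_of_conjBy i i' c g hg⟩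

/-- The local statement: existence of the quotient by the normaliser of a split maximal torus. -/
def LOC : Prop := ∀ (R : Type u) [CommRing R] (G T : Over (Spec (CommRingCat.of R))) [GrpObj G] [GrpObj T]
  [IsAffineHom G.hom] [Smooth G.hom] (i : T ⟶ G), Red.IsMaximalTorus i → ∀ r : ℕ,
  Red.IsSplitTorusWith (Fin r → ℤ) T →
  ∃ (M : Over (Spec (CommRingCat.of R))) (q : G ⟶ M), IsAffine M.left ∧ Smooth M.hom ∧ Flat q.left ∧
    LocallyOfFinitePresentation q.left ∧ Surjective q.left ∧ EQ i q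

/-- The scheme of maximal tori over an affine base, for a group with a split maximal torus. -/
theorem rep_of_loc (hLOC : LOC.{u}) (R : Type u) [CommRing R] (G T : Over (Spec (CommRingCat.of R))) [GrpObj G]
    [GrpObj T] [IsAffineHom G.hom] [Smooth G.hom] (i : T ⟶ G) (hi : Red.IsMaximalTorus i) (r : ℕ)
    (hr : Red.IsSplitTorusWith (Fin r → ℤ) T) :
    ∃ (𝒯 : Over (Spec (CommRingCat.of R))) (Tu : Over 𝒯.left) (_ : GrpObj Tu) (iu : Tu ⟶ Red.bc 𝒯.hom G),
      SGA3x.RepresentsMaxTori G 𝒯 Tu iu ∧ Smooth 𝒯.hom ∧ IsAffineHom 𝒯.hom := by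
  obtain ⟨M, q, hM1, hM2, hq1, hq2, hq3, hEQ⟩ := hLOC R G T i hi r hr
  have h1 : IsMonHom i := hi.1
  have h2 : Mono i := hi.2.1
  have h3 : IsClosedImmersion i.left := TorClosed636.isClosedImmersion_of_isTorus i hi.2.2.1
  obtain ⟨Tu, gTu, iu, -, h⟩ := RepCrit.exists_representsMaxTori i q hEQ
    (fun x => MTHyp.isMaximalTorus_bc x hi)
    (fun S' f T' _ i' hi' => exists_conjTo i hi S' f T' i' hi')
  exact ⟨M, Tu, gTu, iu, h, hM2, inferInstance⟩

/-- a maximal torus of `(G ×_S S') ×_{S'} W` as a maximal torus of `G ×_S W` -/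
lemma isMaximalTorus_comp {S' W : Scheme.{u}} (q : S' ⟶ S) (v : W ⟶ S') {T : Over W} [GrpObj T]
    {i : T ⟶ Red.bc v (Red.bc q G)} (h : Red.IsMaximalTorus i) :
    ∃ j : T ⟶ Red.bc (v ≫ q) G, Red.IsMaximalTorus j := by
  refine ⟨i ≫ (Over.pullbackComp v q).inv.app G, ?_⟩
  refine AlgBc.isMaximalTorus_of_arrow (Iso.refl _) (BcIso.bcCompIso v q G).symm ?_ h
  rw [MTDesc.und_bcCompIso_symm]
  exact (Category.id_comp _).symm

/-- **S4132 from the local statement.** -/
theorem of_loc (hLOC : LOC.{u}) (S : Scheme.{u}) (G : Over S) [GrpObj G]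
    [IsAffineHom G.hom] [Smooth G.hom] (hG : SGA3x.HasMaxTorusFpqcLocally G) :
    ∃ (𝒯 : Over S) (Tu : Over 𝒯.left) (_ : GrpObj Tu) (iu : Tu ⟶ Red.bc 𝒯.hom G),
      SGA3x.RepresentsMaxTori G 𝒯 Tu iu ∧ Smooth 𝒯.hom ∧ IsAffineHom 𝒯.hom ∧ QuasiCompact 𝒯.hom := by
  obtain ⟨S', f, hf1, hf2, hc, T, gT, i, hi⟩ := hG
  have := Etbase.FpqcDescent.descendsAlong_isAffineHom.{u}
  obtain ⟨𝒯, Tu, gTu, iu, h, hS, hA⟩ := exists_representsMaxTori_of_fpqcCover' (MTHyp.hyp_of_affine G)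
    (@Smooth ⊓ @IsAffineHom) f hc fun s' => by
      obtain ⟨B, _, v, r, hv, hs, hr⟩ := TorusEtSplit.exists_etale_split T hi.2.2.1 s'
      have hT : Red.IsMaximalTorus ((Over.pullback v).map i) := by
        have h2 : LocallyOfFiniteType (Red.bc f G).hom :=
          inferInstanceAs (LocallyOfFiniteType (pullback.snd G.hom f))
        exact MTHyp.isMaximalTorus_bc v hi
      have h3 : IsAffineHom (Red.bc (v ≫ f) G).hom :=
        MorphismProperty.pullback_snd (P := @IsAffineHom) _ _ inferInstance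
      have h4 : Smooth (Red.bc (v ≫ f) G).hom := inferInstanceAs (Smooth (pullback.snd G.hom (v ≫ f)))
      obtain ⟨j, hj⟩ := isMaximalTorus_comp f v hT
      obtain ⟨𝒯, Tu, gTu, iu, h, hS, hA⟩ := rep_of_loc hLOC B (Red.bc (v ≫ f) G) (Red.bc v T) j hj r hr
      refine ⟨_, v, inferInstance, inferInstance, hs, 𝒯, Tu, gTu, iu, h, ⟨hS, hA⟩, inferInstance, fun V hV => ?_⟩
      have : IsAffine (𝒯.hom ⁻¹ᵁ V) := hV.preimage 𝒯.hom
      infer_instance
  exact ⟨𝒯, Tu, gTu, iu, h, hS, hA, inferInstance⟩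

end Groth.Agent.Sga3.H828.S4132Of
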