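import Groth.Agent.Sga3.H828.DiagChart
import Mathlib.AlgebraicGeometry.Morphisms.Flat
import Mathlib.GroupTheory.Torsion

/-!
# Multiplicative functions of finite order on a group scheme

`IsMultFn u`: the function `u` on `Y × H` is multiplicative in the variable in `H`.
`IsTorPt x`: the point `x` of `H` is killed by all multiplicative functions of finite order.
-/

set_option autoImplicit false
universe v u
open CategoryTheory MonoidalCategory CartesianMonoidalCategory MonObj GrpObj AlgebraicGeometry Limits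

namespace Groth.Agent.Sga3.H828.TorFn

open Groth.Agent.Sga3B Groth.Agent.Sga3.H828.DiagChart

section sec

/-- Sections of the structure sheaf are determined on a jointly surjective family of flat morphisms. -/
theorem sec_ext {Y : Scheme.{u}} {I : Type v} {X : I → Scheme.{u}} (p : ∀ i, X i ⟶ Y) [∀ i, Flat (p i)]
    (hp : ∀ y : Y, ∃ i, ∃ x : X i, p i x = y) (s s' : Γ(Y, ⊤))
    (h : ∀ i, (p i).appTop s = (p i).appTop s') : s = s' := by
  apply TopCat.Presheaf.section_ext Y.sheaf
  intro y _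
  obtain ⟨i, x, rfl⟩ := hp y
  algebraize [((p i).stalkMap x).hom]
  have : Module.FaithfullyFlat (Y.presheaf.stalk (p i x)) ((X i).presheaf.stalk x) :=
    @Module.FaithfullyFlat.of_flat_of_isLocalHom _ _ _ _ _ _ _
      (Flat.stalkMap (p i) x) ((p i).toLRSHom.prop x)
  have hinj : Function.Injective ((p i).stalkMap x) := ‹RingHom.FaithfullyFlat _›.injective
  apply hinj
  have key : ∀ t : Γ(Y, ⊤), (p i).stalkMap x (Y.presheaf.germ ⊤ (p i x) trivial t) =
      (X i).presheaf.germ ⊤ x trivial ((p i).appTop t) := by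
    intro t
    exact congr($(Scheme.Hom.germ_stalkMap (p i) ⊤ x trivial) t)
  exact (key s).trans ((congrArg _ (h i)).trans (key s').symm)

end sec

variable {S : Scheme.{u}}

/-- Pull back of global functions along a point. -/
noncomputable def ev {Z T : Over S} (z : T ⟶ Z) : Γ(Z.left, ⊤) →+* Γ(T.left, ⊤) := z.left.appTop.hom

lemma ev_comp {Z T T' : Over S} (g : T' ⟶ T) (z : T ⟶ Z) (u : Γ(Z.left, ⊤)) :
    ev (g ≫ z) u = ev g (ev z u) := by
  simp only [ev, Over.comp_left, Scheme.Hom.comp_appTop]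
  rfl

lemma ev_id {Z : Over S} (u : Γ(Z.left, ⊤)) : ev (𝟙 Z) u = u := by
  simp only [ev, Over.id_left, Scheme.Hom.id_appTop]
  rfl

/-- The function `u` on `Y × H` is multiplicative in the second variable. -/
def IsMultFn {Y H : Over S} [GrpObj H] (u : Γ((Y ⊗ H).left, ⊤)) : Prop :=
  ∀ (T : Over S) (y : T ⟶ Y) (h h' : T ⟶ H),
    ev (lift y (h * h')) u = ev (lift y h) u * ev (lift y h') u

/-- The point `x` of `H` is killed by all multiplicative functions of finite order. -/
def IsTorPt {H X : Over S} [GrpObj H] (x : X ⟶ H) : Prop :=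
  ∀ (Y : Over S) (g : Y ⟶ X) (u : Γ((Y ⊗ H).left, ⊤)) (n : ℕ), 0 < n → IsMultFn u → u ^ n = 1 →
    ev (lift (𝟙 Y) (g ≫ x)) u = 1

section mult

variable {Y H : Over S} [GrpObj H] {u : Γ((Y ⊗ H).left, ⊤)}

lemma IsMultFn.one (hu : IsMultFn u) {n : ℕ} (hn : 0 < n) (hun : u ^ n = 1) {T : Over S} (y : T ⟶ Y) :
    ev (lift y (1 : T ⟶ H)) u = 1 := by
  have h1 := hu T y 1 1
  rw [_root_.mul_one] at h1
  have h2 : (ev (lift y (1 : T ⟶ H)) u) ^ n = 1 := by
    rw [← map_pow, hun, map_one]
  have h3 : IsUnit (ev (lift y (1 : T ⟶ H)) u) := IsUnit.of_pow_eq_one h2 hn.ne'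
  exact (h3.mul_left_cancel (b := ev (lift y (1 : T ⟶ H)) u) (c := 1)
    (by rw [_root_.mul_one]; exact h1.symm))

lemma IsMultFn.pow (hu : IsMultFn u) {n : ℕ} (hn : 0 < n) (hun : u ^ n = 1) {T : Over S} (y : T ⟶ Y)
    (h : T ⟶ H) (k : ℕ) : ev (lift y (h ^ k)) u = ev (lift y h) u ^ k := by
  induction k with
  | zero => rw [pow_zero, pow_zero, hu.one hn hun]
  | succ k ih => rw [pow_succ, hu, ih, pow_succ]

/-- base change of multiplicative functions -/
lemma IsMultFn.bc (hu : IsMultFn u) {Y' : Over S} (g : Y' ⟶ Y) : IsMultFn (ev (g ▷ H) u) := by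
  intro T y h h'
  rw [← ev_comp, ← ev_comp, ← ev_comp]
  simp only [lift_whiskerRight]
  exact hu T _ _ _

end mult

section pts

variable {H X : Over S} [GrpObj H]

lemma IsTorPt.comp {x : X ⟶ H} (hx : IsTorPt x) {X' : Over S} (f : X' ⟶ X) : IsTorPt (f ≫ x) := by
  intro Y g u n hn hu hun
  rw [← Category.assoc]
  exact hx Y (g ≫ f) u n hn hu hun

lemma IsTorPt.one : IsTorPt (1 : X ⟶ H) := by
  intro Y g u n hn hu hun
  rw [MonObj.comp_one]
  exact hu.one hn hun _

lemma IsTorPt.mul {x y : X ⟶ H} (hx : IsTorPt x) (hy : IsTorPt y) : IsTorPt (x * y) := by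
  intro Y g u n hn hu hun
  rw [MonObj.comp_mul, hu, hx Y g u n hn hu hun, hy Y g u n hn hu hun, _root_.one_mul]

lemma IsTorPt.inv {x : X ⟶ H} (hx : IsTorPt x) : IsTorPt x⁻¹ := by
  intro Y g u n hn hu hun
  rw [GrpObj.comp_inv]
  have h1 := hu Y (𝟙 Y) (g ≫ x) (g ≫ x)⁻¹
  rw [hx Y g u n hn hu hun, _root_.one_mul, _root_.mul_inv_cancel, hu.one hn hun] at h1
  exact h1.symm

/-- Being killed by the multiplicative functions of finite order is local for flat families. -/
lemma IsTorPt.of_local {x : X ⟶ H} {I : Type v} {V : I → Over S} (p : ∀ i, V i ⟶ X)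
    [∀ i, Flat (p i).left] (hp : ∀ y : X.left, ∃ i, ∃ v : (V i).left, (p i).left v = y)
    (h : ∀ i, IsTorPt (p i ≫ x)) : IsTorPt x := by
  intro Y g u n hn hu hun
  let W : I → Over S := fun i => Over.mk (pullback.snd (p i).left g.left ≫ Y.hom)
  let q : ∀ i, W i ⟶ Y := fun i => Over.homMk (pullback.snd (p i).left g.left) rfl
  let r : ∀ i, W i ⟶ V i := fun i => Over.homMk (pullback.fst (p i).left g.left) (by
    change pullback.fst (p i).left g.left ≫ (V i).hom = pullback.snd (p i).left g.left ≫ Y.hom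
    rw [← Over.w (p i), ← Over.w g, pullback.condition_assoc])
  have hqr : ∀ i, q i ≫ g = r i ≫ p i := by
    intro i
    ext1
    exact pullback.condition.symm
  refine sec_ext (fun i => pullback.snd (p i).left g.left) ?_ _ _ ?_
  · intro y
    obtain ⟨i, v, hv⟩ := hp (g.left y)
    obtain ⟨z, -, hz⟩ := Scheme.Pullback.exists_preimage_pullback v y hv
    exact ⟨i, z, hz⟩
  · intro i
    change ev (q i) _ = ev (q i) 1
    rw [map_one, ← ev_comp, comp_lift, Category.comp_id]
    have h1 := h i (W i) (r i) (ev (q i ▷ H) u) n hn (hu.bc _) (by rw [← map_pow, hun, map_one])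
    rw [← ev_comp, lift_whiskerRight, Category.id_comp, ← Category.assoc, ← hqr,
      Category.assoc] at h1
    exact h1

end pts

end Groth.Agent.Sga3.H828.TorFn
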