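import Groth.Agent.Sga3.H828.TorFn
import Groth.Agent.Sga3B.GaPts

/-!
# The key computation on a diagonalisable chart

`ev_eq_one`: on a chart `H|B ≅ D_B(M)` a multiplicative function of finite order takes the value `1` at every
point at which all the characters of finite order are trivial.
`isTorPt_iff`: hence `IsTorPt x` iff the characters of finite order of the chart are trivial at `x`.
-/

set_option autoImplicit false
universe v u
open CategoryTheory MonoidalCategory CartesianMonoidalCategory MonObj GrpObj AlgebraicGeometry Limits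

namespace Groth.Agent.Sga3.H828.TorKey

open Groth.Agent.Sga3B Groth.Agent.Sga3.H828.DiagChart Groth.Agent.Sga3.H828.TorFn

variable {S : Scheme.{u}}

section aff

variable {Y : Over S} [IsAffine Y.left] {E : Type u} [CommRing E] (α : Γ(Y.left, ⊤) →+* E)

/-- `Spec E` over the affine scheme `Y`. -/
noncomputable def yMap : Spec (CommRingCat.of E) ⟶ Y.left :=
  Spec.map (CommRingCat.ofHom α) ≫ Y.left.isoSpec.inv

/-- `Spec E` over `S`. -/
noncomputable def TE : Over S := Over.mk (yMap α ≫ Y.hom)

/-- the map to `Y` -/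
noncomputable def yE : TE α ⟶ Y := Over.homMk (yMap α) rfl

/-- functions on `Spec E` -/
noncomputable def secE : E →+* Γ((TE α).left, ⊤) := (Scheme.ΓSpecIso (CommRingCat.of E)).inv.hom

lemma secE_bijective : Function.Bijective (secE α) :=
  (Scheme.ΓSpecIso (CommRingCat.of E)).symm.commRingCatIsoToRingEquiv.bijective

lemma ev_yE (a : Γ(Y.left, ⊤)) : ev (yE α) a = secE α (α a) := by
  have h0 : Y.left.isoSpec.inv.appTop = (Scheme.ΓSpecIso Γ(Y.left, ⊤)).inv := by
    have h2 : Y.left.isoSpec.hom.appTop ≫ Y.left.isoSpec.inv.appTop = 𝟙 _ := by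
      rw [← Scheme.Hom.comp_appTop, Iso.inv_hom_id, Scheme.Hom.id_appTop]
    rw [Scheme.isoSpec_hom, Scheme.toSpecΓ_appTop] at h2
    rw [← cancel_epi (Scheme.ΓSpecIso Γ(Y.left, ⊤)).hom, h2, Iso.hom_inv_id]
  have h1 : Y.left.isoSpec.inv.appTop a = (Scheme.ΓSpecIso Γ(Y.left, ⊤)).inv a := by
    rw [h0]
  change (yMap α).appTop a = _
  rw [yMap, Scheme.Hom.comp_appTop]
  change (Spec.map (CommRingCat.ofHom α)).appTop (Y.left.isoSpec.inv.appTop a) = _
  rw [h1]
  have h2 := congr($(Scheme.ΓSpecIso_inv_naturality (CommRingCat.ofHom α)) a)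
  exact h2.symm

/-- points of `Spec E` over `Y`. -/
lemma exists_pt {T : Over S} (y : T ⟶ Y) (ψ : E →+* Γ(T.left, ⊤)) (hψ : ∀ a, ψ (α a) = ev y a) :
    ∃ z : T ⟶ TE α, z ≫ yE α = y ∧ ∀ e, ev z (secE α e) = ψ e := by
  have h1 : (T.left.toSpecΓ ≫ Spec.map (CommRingCat.ofHom ψ)) ≫ yMap α = y.left := by
    rw [yMap, Category.assoc]
    have h2 : Spec.map (CommRingCat.ofHom ψ) ≫ Spec.map (CommRingCat.ofHom α) =
        Spec.map y.left.appTop := by
      rw [← Spec.map_comp]
      congr 1
      ext a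
      exact hψ a
    rw [reassoc_of% h2, ← Scheme.toSpecΓ_naturality_assoc, ← Scheme.isoSpec_hom,
      Iso.hom_inv_id, Category.comp_id]
  refine ⟨Over.homMk (T.left.toSpecΓ ≫ Spec.map (CommRingCat.ofHom ψ)) ?_, ?_, ?_⟩
  · change (T.left.toSpecΓ ≫ Spec.map (CommRingCat.ofHom ψ)) ≫ yMap α ≫ Y.hom = T.hom
    rw [← Category.assoc, h1, Over.w]
  · ext1
    exact h1
  · intro e
    exact GaPts.appTop_toSpecΓ_comp ψ e

end aff

section key

variable {H B Y : Over S} [GrpObj H] {M : Type} [AddCommGroup M]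

/-- the value at a torsion-free chart point of a multiplicative function of finite order -/
theorem ev_eq_one (c : Chart H B M) [IsAffine Y.left] (b : Y ⟶ B) {u : Γ((Y ⊗ H).left, ⊤)}
    (hu : IsMultFn u) {n : ℕ} (hn : 0 < n) (hun : u ^ n = 1) (x : Y ⟶ H)
    (hx : ∀ m : M, IsOfFinAddOrder m → c.chr b x (Multiplicative.ofAdd m) = 1) :
    ev (lift (𝟙 Y) x) u = 1 := by
  let N := M ⧸ AddCommGroup.torsion M
  let π : M →+ N := QuotientAddGroup.mk' _
  let A := Γ(Y.left, ⊤)
  let E := MonoidAlgebra A (Multiplicative N)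
  let α : A →+* E := MonoidAlgebra.singleOneRingHom
  let φ₀ : Multiplicative M →* Γ((TE α).left, ⊤) :=
    ((secE α : E →* _).comp (MonoidAlgebra.of A (Multiplicative N))).comp (AddMonoidHom.toMultiplicative π)
  have hφ₀ : ∀ m, φ₀ m = secE α (MonoidAlgebra.single (AddMonoidHom.toMultiplicative π m) 1) :=
    fun m => rfl
  let h₀ : TE α ⟶ H := (c.chr (yE α ≫ b)).symm φ₀
  have hh₀ : c.chr (yE α ≫ b) h₀ = φ₀ := MulEquiv.apply_symm_apply _ _
  -- the value at the universal point
  have step1 : ev (lift (yE α) h₀) u = 1 := by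
    let pw : Multiplicative N →* Multiplicative N := powMonoidHom n
    let ν : E →+* E := MonoidAlgebra.mapDomainRingHom A pw
    have hν : Function.Injective ν := by
      refine MonoidAlgebra.mapDomain_injective (f := pw) ?_
      intro a b hab
      exact pow_left_injective hn.ne' hab
    have hν1 : ∀ (m : Multiplicative N) (a : A), ν (MonoidAlgebra.single m a) =
        MonoidAlgebra.single (m ^ n) a := fun m a => MonoidAlgebra.mapDomain_single
    obtain ⟨z, hz1, hz2⟩ := exists_pt α (yE α) ((secE α).comp ν) (by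
      intro a
      rw [ev_yE]
      change secE α (ν (MonoidAlgebra.single 1 a)) = secE α (MonoidAlgebra.single 1 a)
      rw [hν1, one_pow])
    have hz3 : z ≫ h₀ = h₀ ^ n := by
      apply (c.chr (yE α ≫ b)).injective
      conv_lhs => rw [← hz1]
      rw [Category.assoc, c.chr_comp, map_pow, hh₀]
      refine MonoidHom.ext fun m => ?_
      change ev z (φ₀ m) = φ₀ m ^ n
      rw [hφ₀, hz2, ← map_pow, MonoidAlgebra.single_pow, one_pow]
      change secE α (ν _) = _
      rw [hν1]
    have hz4 : ev z (ev (lift (yE α) h₀) u) = ev z 1 := by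
      rw [← ev_comp, comp_lift, hz1, hz3, hu.pow hn hun, ← map_pow, hun, map_one, map_one]
    obtain ⟨e, he⟩ := (secE_bijective α).2 (ev (lift (yE α) h₀) u)
    rw [← he, ← map_one (secE α), hz2, hz2] at hz4
    rw [← he, hν ((secE_bijective α).1 hz4), map_one]
  -- the given point factors through the universal one
  let χ : M →+ Additive A := MonoidHom.toAdditiveRight (c.chr b x)
  let χ' : N →+ Additive A := QuotientAddGroup.lift _ χ (by
    intro m hm
    exact hx m hm)
  let χ'' : Multiplicative N →* A := AddMonoidHom.toMultiplicativeLeft χ'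
  have hχ'' : ∀ m : Multiplicative M, χ'' (AddMonoidHom.toMultiplicative π m) = c.chr b x m := fun m => rfl
  let ψ : E →+* A := (MonoidAlgebra.lift A A (Multiplicative N) χ'').toRingHom
  obtain ⟨z, hz1, hz2⟩ := exists_pt α (𝟙 Y) ψ (by
    intro a
    rw [ev_id]
    change (MonoidAlgebra.lift A A (Multiplicative N) χ'') (MonoidAlgebra.single 1 a) = a
    simp)
  have hz3 : z ≫ h₀ = x := by
    apply (c.chr b).injective
    have hb : b = z ≫ yE α ≫ b := by rw [← Category.assoc, hz1, Category.id_comp]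
    conv_lhs => rw [hb]
    rw [c.chr_comp, hh₀]
    refine MonoidHom.ext fun m => ?_
    change ev z (φ₀ m) = _
    rw [hφ₀, hz2]
    change (MonoidAlgebra.lift A A (Multiplicative N) χ'') _ = _
    rw [MonoidAlgebra.lift_single, one_smul, hχ'']
  rw [← hz1, ← hz3, ← comp_lift, ev_comp, step1, map_one]

/-- On a chart, being killed by the multiplicative functions of finite order is being killed by the
characters of finite order. -/
theorem isTorPt_of_chart (c : Chart H B M) (b : Y ⟶ B) (x : Y ⟶ H)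
    (hx : ∀ m : M, IsOfFinAddOrder m → c.chr b x (Multiplicative.ofAdd m) = 1) : IsTorPt x := by
  intro Z g u n hn hu hun
  refine sec_ext (fun i : Z.left.affineOpens => i.1.ι) ?_ _ _ ?_
  · intro z
    obtain ⟨_, ⟨W, hW, rfl⟩, hz, -⟩ := Z.left.isBasis_affineOpens.exists_subset_of_mem_open
        (Set.mem_univ z) isOpen_univ
    exact ⟨⟨W, hW⟩, ⟨z, hz⟩, rfl⟩
  · intro W
    let Z' : Over S := Over.mk (W.1.ι ≫ Z.hom)
    let q : Z' ⟶ Z := Over.homMk W.1.ι rfl
    have : IsAffine Z'.left := W.2
    change ev q _ = ev q 1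
    rw [map_one, ← ev_comp, comp_lift, Category.comp_id]
    have h1 := ev_eq_one c ((q ≫ g) ≫ b) (hu.bc q) hn (by rw [← map_pow, hun, map_one]) ((q ≫ g) ≫ x) (by
      intro m hm
      rw [c.chr_comp_apply, hx m hm, map_one])
    rw [← ev_comp, lift_whiskerRight, Category.id_comp, Category.assoc] at h1
    exact h1

/-- the characters of a chart, as multiplicative functions. -/
lemma isMultFn_chr (c : Chart H B M) (b : Y ⟶ B) (m : Multiplicative M) :
    IsMultFn (c.chr (fst Y H ≫ b) (snd Y H) m) := by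
  intro T y h h'
  change (lift y (h * h')).left.appTop _ = (lift y h).left.appTop _ * (lift y h').left.appTop _
  rw [← c.chr_comp_apply, ← c.chr_comp_apply, ← c.chr_comp_apply]
  simp only [lift_fst_assoc, lift_snd, map_mul, MonoidHom.mul_apply]

theorem isTorPt_iff (c : Chart H B M) (b : Y ⟶ B) (x : Y ⟶ H) :
    IsTorPt x ↔ ∀ m : M, IsOfFinAddOrder m → c.chr b x (Multiplicative.ofAdd m) = 1 := by
  refine ⟨fun h m hm => ?_, isTorPt_of_chart c b x⟩
  obtain ⟨n, hn, hnm⟩ := isOfFinAddOrder_iff_nsmul_eq_zero.mp hm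
  have h1 := h Y (𝟙 Y) _ n hn (isMultFn_chr c b (Multiplicative.ofAdd m)) (by
    rw [← map_pow, ← ofAdd_nsmul, hnm, ofAdd_zero, map_one])
  rw [Category.id_comp] at h1
  change (lift (𝟙 Y) x).left.appTop _ = _ at h1
  rw [← c.chr_comp_apply] at h1
  simpa only [lift_fst_assoc, lift_snd, Category.id_comp] using h1

end key

end Groth.Agent.Sga3.H828.TorKey
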