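import Groth.Agent.Sga3.H828.TorusPt
import Groth.Agent.Desc.LocalRep

/-!
# Representability of the functor of points killed by the multiplicative functions of finite order
-/

set_option autoImplicit false
universe v u
open CategoryTheory MonoidalCategory CartesianMonoidalCategory MonObj AlgebraicGeometry Limits Opposite

namespace Groth.Agent.Sga3.H828.TorRep

open Groth.Agent.Sga3B Groth.Agent.Sga3.H828.DiagChart Groth.Agent.Sga3.H828.TorFn
  Groth.Agent.Sga3.H828.TorKey Groth.Agent.Sga3.H828.TorusPt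
  Groth.Agent.Desc.SecFunctor Groth.Agent.Desc.SecPresheaf
  Groth.Agent.Desc.SecDescent Groth.Agent.Picfga.OverRep Groth.Agent.Desc.ZarGlue

variable {S : Scheme.{u}} (H : Over S) [GrpObj H]

/-- The functor of points of `H` killed by the multiplicative functions of finite order. -/
def torF : (Over S)ᵒᵖ ⥤ Type u where
  obj X := {x : X.unop ⟶ H // IsTorPt x}
  map f := ↾fun x => ⟨f.unop ≫ x.1, x.2.comp _⟩
  map_id _ := ConcreteCategory.hom_ext _ _ fun _ => Subtype.ext (Category.id_comp _)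
  map_comp _ _ := ConcreteCategory.hom_ext _ _ fun _ => Subtype.ext (Category.assoc _ _ _)

lemma torF_map_val {X Y : Over S} (f : Y ⟶ X) (x : (torF H).obj (op X)) :
    ((torF H).map f.op x).1 = f ≫ x.1 := rfl

theorem isZarSheaf_torF : IsZarSheaf (torF H) := by
  intro T 𝒰 x hx
  obtain ⟨y, hy⟩ := glue_hom T H 𝒰 (fun i => (x i).1) fun i k W a b hab =>
    congrArg Subtype.val (hx i k W a b hab)
  have hy' : IsTorPt y := by
    refine IsTorPt.of_local 𝒰.j 𝒰.covers fun i => ?_
    rw [hy]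
    exact (x i).2
  refine ⟨⟨y, hy'⟩, fun i => Subtype.ext (hy i), fun z hz => Subtype.ext ?_⟩
  refine hom_ext_cover T H 𝒰 _ _ fun i => ?_
  rw [hy i]
  exact congrArg Subtype.val (hz i)

theorem isDesc_torF {T' T : Over S} (g : T' ⟶ T) [Flat g.left] [Surjective g.left]
    [QuasiCompact g.left] : IsDesc (torF H) g := by
  have : Epi g.left := Flat.epi_of_flat_of_surjective g.left
  constructor
  · intro a b hab
    have h1 : g ≫ a.1 = g ≫ b.1 := congrArg Subtype.val hab
    apply Subtype.ext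
    ext1
    rw [← cancel_epi g.left]
    exact congrArg (fun f => f.left) h1
  · intro a ha
    have h1 : ∀ {Z : Scheme.{u}} (z₀ z₁ : Z ⟶ T'.left), z₀ ≫ g.left = z₁ ≫ g.left →
        z₀ ≫ a.1.left = z₁ ≫ a.1.left := by
      intro Z z₀ z₁ hz
      have hz' : z₁ ≫ T'.hom = z₀ ≫ T'.hom := by
        rw [← Over.w g, ← Category.assoc, ← hz, Category.assoc]
      have h2 := ha (Over.mk (z₀ ≫ T'.hom)) (Over.homMk z₀ rfl) (Over.homMk z₁ hz')
        (by ext1; exact hz)
      exact congrArg (fun f => f.1.left) h2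
    let y₀ : T.left ⟶ H.left := EffectiveEpi.desc g.left a.1.left h1
    have hy₀ : g.left ≫ y₀ = a.1.left := EffectiveEpi.fac _ _ _
    let y : T ⟶ H := Over.homMk y₀ (by
      rw [← cancel_epi g.left, ← Category.assoc, hy₀, Over.w, Over.w])
    have hy : g ≫ y = a.1 := by
      ext1
      exact hy₀
    have hy' : IsTorPt y := by
      refine IsTorPt.of_local (I := PUnit.{1}) (V := fun _ => T') (fun _ => g) (fun t => ?_) fun _ => ?_
      · obtain ⟨t', ht'⟩ := g.left.surjective t
        exact ⟨⟨⟩, t', ht'⟩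
      · rw [hy]
        exact a.2
    exact ⟨⟨y, hy'⟩, Subtype.ext hy⟩

section chart

variable {H} {B : Over S} {M : Type} [AddCommGroup M]

/-- the maximal torsion-free quotient -/
abbrev TF (M : Type) [AddCommGroup M] : Type := M ⧸ AddCommGroup.torsion M

/-- the projection -/
abbrev toTF (M : Type) [AddCommGroup M] : Multiplicative M →* Multiplicative (TF M) :=
  AddMonoidHom.toMultiplicative (QuotientAddGroup.mk' (AddCommGroup.torsion M))

lemma toTF_surjective (M : Type) [AddCommGroup M] : Function.Surjective (toTF M) := fun x => by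
  obtain ⟨y, hy⟩ := QuotientAddGroup.mk'_surjective (AddCommGroup.torsion M) (Multiplicative.toAdd x)
  exact ⟨Multiplicative.ofAdd y, hy⟩

lemma exists_factor {A : Type*} [CommMonoid A] (χ : Multiplicative M →* A)
    (h : ∀ m : M, IsOfFinAddOrder m → χ (Multiplicative.ofAdd m) = 1) :
    ∃ χ' : Multiplicative (TF M) →* A, χ'.comp (toTF M) = χ := by
  let χ₁ : M →+ Additive A := MonoidHom.toAdditiveRight χ
  let χ₂ : TF M →+ Additive A := QuotientAddGroup.lift _ χ₁ (fun m hm => h m hm)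
  exact ⟨AddMonoidHom.toMultiplicativeLeft χ₂, rfl⟩

lemma toTF_torsion {m : M} (hm : IsOfFinAddOrder m) : toTF M (Multiplicative.ofAdd m) = 1 := by
  have h1 : (QuotientAddGroup.mk' (AddCommGroup.torsion M)) m = 0 := (QuotientAddGroup.eq_zero_iff m).2 hm
  exact congrArg Multiplicative.ofAdd h1

/-- points killed by the multiplicative functions of finite order, on a chart -/
lemma isTorPt_iff_exists (c : Chart H B M) {X : Over S} (t : X ⟶ B) (x : X ⟶ H) :
    IsTorPt x ↔ ∃ χ' : Multiplicative (TF M) →* Γ(X.left, ⊤), χ'.comp (toTF M) = c.chr t x := by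
  rw [isTorPt_iff c t x]
  refine ⟨fun h => exists_factor _ h, ?_⟩
  rintro ⟨χ', h⟩ m hm
  rw [← h, MonoidHom.comp_apply, toTF_torsion hm, map_one]

/-- the point attached to a character of the torsion-free quotient -/
noncomputable def ptOf (c : Chart H B M) {X : Over S} (t : X ⟶ B)
    (χ' : Multiplicative (TF M) →* Γ(X.left, ⊤)) : X ⟶ H := (c.chr t).symm (χ'.comp (toTF M))

lemma chr_ptOf (c : Chart H B M) {X : Over S} (t : X ⟶ B)
    (χ' : Multiplicative (TF M) →* Γ(X.left, ⊤)) : c.chr t (ptOf c t χ') = χ'.comp (toTF M) :=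
  MulEquiv.apply_symm_apply _ _

lemma isTorPt_ptOf (c : Chart H B M) {X : Over S} (t : X ⟶ B)
    (χ' : Multiplicative (TF M) →* Γ(X.left, ⊤)) : IsTorPt (ptOf c t χ') :=
  (isTorPt_iff_exists c t _).2 ⟨χ', (chr_ptOf c t χ').symm⟩

lemma ptOf_injective (c : Chart H B M) {X : Over S} (t : X ⟶ B) : Function.Injective (ptOf c t) := by
  intro χ χ' h
  have h1 := (c.chr t).symm.injective h
  refine MonoidHom.ext fun m => ?_
  obtain ⟨m, rfl⟩ := toTF_surjective M m
  exact DFunLike.congr_fun h1 m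

lemma exists_ptOf (c : Chart H B M) {X : Over S} (t : X ⟶ B) {x : X ⟶ H} (hx : IsTorPt x) :
    ∃ χ', ptOf c t χ' = x := by
  obtain ⟨χ', h⟩ := (isTorPt_iff_exists c t x).1 hx
  refine ⟨χ', ?_⟩
  rw [ptOf, h, MulEquiv.symm_apply_apply]

lemma ptOf_mul (c : Chart H B M) {X : Over S} (t : X ⟶ B)
    (χ χ' : Multiplicative (TF M) →* Γ(X.left, ⊤)) : ptOf c t (χ * χ') = ptOf c t χ * ptOf c t χ' := by
  rw [ptOf, ptOf, ptOf, ← map_mul]
  rfl

lemma comp_ptOf (c : Chart H B M) {X X' : Over S} (g : X' ⟶ X) (t : X ⟶ B)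
    (χ : Multiplicative (TF M) →* Γ(X.left, ⊤)) :
    g ≫ ptOf c t χ = ptOf c (g ≫ t) ((g.left.appTop.hom : _ →* _).comp χ) := by
  rw [ptOf, Chart.chr_symm_comp]
  rfl

section

variable {U : Scheme.{u}} (q : U ⟶ S) (c : Chart H (Over.mk q) M)

/-- the point of `H` attached to a point of `D(M/tors)` -/
noncomputable def dsTor (X : Over U) (x : X ⟶ Red.DS U (TF M)) : (Over.map q).obj X ⟶ H :=
  ptOf c (Chart.taut q X) (DSPts.dsChar x : Multiplicative (TF M) →* Γ(X.left, ⊤))

lemma isTorPt_dsTor (X : Over U) (x : X ⟶ Red.DS U (TF M)) : IsTorPt (dsTor q c X x) :=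
  isTorPt_ptOf _ _ _

lemma dsTor_injective (X : Over U) : Function.Injective (dsTor q c X) := by
  intro x x' h
  have h1 : (DSPts.dsChar x : Multiplicative (TF M) →* Γ(X.left, ⊤)) = DSPts.dsChar x' :=
    ptOf_injective c _ h
  exact (DSPts.dsEquiv X (TF M)).symm.injective h1

lemma exists_dsTor (X : Over U) {x : (Over.map q).obj X ⟶ H} (hx : IsTorPt x) :
    ∃ y, dsTor q c X y = x := by
  obtain ⟨χ, h⟩ := exists_ptOf c (Chart.taut q X) hx
  refine ⟨DSPts.dsEquiv X (TF M) χ, ?_⟩
  rw [← h]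
  have h1 : (DSPts.dsChar (DSPts.dsEquiv X (TF M) χ) : Multiplicative (TF M) →* Γ(X.left, ⊤)) = χ :=
    DSPts.dsChar_dsEquiv (T := X) χ
  exact congrArg (ptOf c (Chart.taut q X)) h1

lemma dsTor_comp {X X' : Over U} (f : X ⟶ X') (g : X' ⟶ Red.DS U (TF M)) :
    dsTor q c X (f ≫ g) = (Over.map q).map f ≫ dsTor q c X' g := by
  have h1 := comp_ptOf c ((Over.map q).map f) (Chart.taut q X')
    (DSPts.dsChar g : Multiplicative (TF M) →* Γ(X'.left, ⊤))
  have h2 : Chart.taut q X = (Over.map q).map f ≫ Chart.taut q X' := by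
    ext1
    simp
  rw [dsTor, dsTor, h1, ← h2, DSPts.dsChar_comp]
  rfl

lemma dsTor_mul {X : Over U} (x y : X ⟶ Red.DS U (TF M)) :
    dsTor q c X (x * y) = dsTor q c X x * dsTor q c X y := by
  rw [dsTor, dsTor, dsTor, ← ptOf_mul, DSPts.dsChar_mul]

include c in
/-- The functor is represented by `D(M/tors)` on a chart. -/
theorem exists_rep_chart :
    Nonempty ((restr q (torF H)).RepresentableBy (Red.DS U (TF M))) := by
  refine ⟨{ homEquiv := fun {X} => Equiv.ofBijective
              (fun x : X ⟶ Red.DS U (TF M) => (⟨dsTor q c X x, isTorPt_dsTor q c X x⟩ :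
                {x : (Over.map q).obj X ⟶ H // IsTorPt x})) ⟨?_, ?_⟩
            homEquiv_comp := ?_ }⟩
  · intro x x' h
    exact dsTor_injective q c X (congrArg Subtype.val h)
  · rintro ⟨x, hx⟩
    obtain ⟨y, h⟩ := exists_dsTor q c X hx
    exact ⟨y, Subtype.ext h⟩
  · intro X X' f g
    exact Subtype.ext (dsTor_comp q c f g)

end

end chart

end Groth.Agent.Sga3.H828.TorRep
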