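import Groth.Agent.Sga3.H828.TorKey

/-!
# Multiplicative functions of finite order on tori

* `isTorPt_torus`: a multiplicative function of finite order on a torus is trivial;
* `isTorPt_of_hom`: a family of homomorphisms from a torus to `H`, parametrised by `S₁ ⟶ S`, lands in the points
  killed by the multiplicative functions of finite order.
-/

set_option autoImplicit false
universe v u
open CategoryTheory MonoidalCategory CartesianMonoidalCategory MonObj GrpObj AlgebraicGeometry Limits

namespace Groth.Agent.Sga3.H828.TorusPt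

open Groth.Agent.Sga3B Groth.Agent.Sga3.H828.DiagChart Groth.Agent.Sga3.H828.TorFn
  Groth.Agent.Sga3.H828.TorKey

section loc

variable {S S' : Scheme.{u}} {f : S' ⟶ S} {X : Over S} {U : S' → S'.Opens}

/-- the member at `s'` of the flat covering of an `S`-scheme attached to `S' → S` and opens of `S'`. -/
noncomputable def mem (f : S' ⟶ S) (U : S' → S'.Opens) (X : Over S) (s' : S') : Over S :=
  Over.mk (pullback.fst X.hom ((U s').ι ≫ f) ≫ X.hom)

/-- projection -/
noncomputable def memP (f : S' ⟶ S) (U : S' → S'.Opens) (X : Over S) (s' : S') : mem f U X s' ⟶ X :=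
  Over.homMk (pullback.fst X.hom ((U s').ι ≫ f)) rfl

/-- map to the base -/
noncomputable def memB (f : S' ⟶ S) (U : S' → S'.Opens) (X : Over S) (s' : S') :
    mem f U X s' ⟶ Over.mk ((U s').ι ≫ f) :=
  Over.homMk (pullback.snd X.hom ((U s').ι ≫ f)) pullback.condition.symm

instance [Flat f] (s' : S') : Flat (memP f U X s').left :=
  inferInstanceAs (Flat (pullback.fst X.hom ((U s').ι ≫ f)))

lemma memP_surj [Surjective f] (hU : ∀ s', s' ∈ U s') (x : X.left) :
    ∃ s', ∃ v : (mem f U X s').left, (memP f U X s').left v = x := by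
  obtain ⟨s', hs'⟩ := f.surjective (X.hom x)
  obtain ⟨z, hz, -⟩ := Scheme.Pullback.exists_preimage_pullback (f := X.hom) (g := (U s').ι ≫ f)
    x ⟨s', hU s'⟩ (by rw [← hs']; rfl)
  exact ⟨s', z, hz⟩

end loc

variable {S : Scheme.{u}}

/-- Every point of a torus is killed by the multiplicative functions of finite order. -/
theorem isTorPt_torus {R : Over S} [GrpObj R] (hR : Red.IsTorus R) {X : Over S} (x : X ⟶ R) :
    IsTorPt x := by
  obtain ⟨S', f, _, _, -, hf⟩ := hR
  choose U hU r hr using hf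
  refine IsTorPt.of_local (memP f U X) (memP_surj hU) fun s' => ?_
  obtain ⟨e⟩ := hr s'
  refine isTorPt_of_chart (Chart.ofIso _ e) (memB f U X s') _ fun m hm => ?_
  rw [hm.eq_zero', ofAdd_zero, map_one]

section hom

variable {S₁ : Scheme.{u}} (a : S₁ ⟶ S) {R : Over S₁} [GrpObj R] {H : Over S} [GrpObj H]

/-- A family of homomorphisms from a torus lands in the points killed by the multiplicative functions of
finite order. -/
theorem isTorPt_of_hom (hR : Red.IsTorus R) (j : (Over.map a).obj R ⟶ H)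
    (hj : ∀ (X : Over S₁) (r r' : X ⟶ R),
      (Over.map a).map (r * r') ≫ j = ((Over.map a).map r ≫ j) * ((Over.map a).map r' ≫ j)) :
    IsTorPt j := by
  intro Y g u n hn hu hun
  let Y₁ : Over S₁ := Over.mk (g.left ≫ R.hom)
  let ρ : Y₁ ⟶ R := Over.homMk g.left rfl
  let κ : (Over.map a).obj Y₁ ⟶ Y := Over.homMk (𝟙 Y.left) (by
    change 𝟙 _ ≫ Y.hom = (g.left ≫ R.hom) ≫ a
    rw [Category.id_comp, ← Over.w g, Category.assoc]
    rfl)
  let θ : (Over.map a).obj (Y₁ ⊗ R) ⟶ Y ⊗ H :=
    lift ((Over.map a).map (fst Y₁ R) ≫ κ) ((Over.map a).map (snd Y₁ R) ≫ j)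
  let v : Γ((Y₁ ⊗ R).left, ⊤) := ev θ u
  have hv : ∀ {T : Over S₁} (y : T ⟶ Y₁) (r : T ⟶ R), ev (lift y r) v =
      ev (lift ((Over.map a).map y ≫ κ) ((Over.map a).map r ≫ j)) u := by
    intro T y r
    have h1 : (Over.map a).map (lift y r) ≫ θ =
        lift ((Over.map a).map y ≫ κ) ((Over.map a).map r ≫ j) := by
      simp only [θ, comp_lift, ← Category.assoc, ← Functor.map_comp, lift_fst, lift_snd]
    rw [← h1, ev_comp]
    rfl
  have hvm : IsMultFn v := by
    intro T y r r'
    rw [hv, hv, hv, hj]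
    exact hu _ _ _ _
  have h1 := isTorPt_torus hR ρ Y₁ (𝟙 Y₁) v n hn hvm (by
    change (ev θ u) ^ n = 1
    rw [← map_pow, hun, map_one])
  rw [hv, Category.id_comp, CategoryTheory.Functor.map_id, Category.id_comp] at h1
  have h2 : lift κ ((Over.map a).map ρ ≫ j) = κ ≫ lift (𝟙 Y) (g ≫ j) := by
    have h4 : (Over.map a).map ρ = κ ≫ g := by
      ext1
      exact (Category.id_comp _).symm
    rw [comp_lift, Category.comp_id, h4, Category.assoc]
  rw [h2, ev_comp] at h1
  have h3 : ∀ t : Γ(Y.left, ⊤), ev κ t = t := fun t => by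
    change (𝟙 Y.left : Y.left ⟶ Y.left).appTop t = t
    rw [Scheme.Hom.id_appTop]
    rfl
  rw [h3] at h1
  exact h1

/-- Version for a homomorphism to the base change. -/
theorem isTorPt_of_bc (hR : Red.IsTorus R) (j : R ⟶ Red.bc a H) [IsMonHom j] :
    IsTorPt ((DSPts.bcEquiv a R H).symm j) := by
  refine isTorPt_of_hom a hR _ fun X r r' => ?_
  rw [DSPts.bcEquiv_symm_naturality, MonObj.mul_comp, map_mul, DSPts.bcEquiv_symm_naturality,
    DSPts.bcEquiv_symm_naturality]

end hom

/-- Version over the base itself. -/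
theorem isTorPt_of_isMonHom {R H : Over S} [GrpObj R] [GrpObj H] (hR : Red.IsTorus R) (j : R ⟶ H)
    [IsMonHom j] : IsTorPt j := by
  let c : ∀ X : Over S, (Over.map (𝟙 S)).obj X ≅ X := fun X =>
    Over.isoMk (Iso.refl _) (by
      change 𝟙 _ ≫ X.hom = X.hom ≫ 𝟙 S
      simp)
  have hc : ∀ {X Y : Over S} (f : X ⟶ Y), (Over.map (𝟙 S)).map f ≫ (c Y).hom = (c X).hom ≫ f := by
    intro X Y f
    ext1
    simp [c]
  have h1 : IsTorPt ((c R).hom ≫ j) := by
    refine isTorPt_of_hom (𝟙 S) hR _ fun X r r' => ?_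
    rw [← Category.assoc, hc, ← Category.assoc, hc, ← Category.assoc, hc, Category.assoc,
      MonObj.mul_comp, MonObj.comp_mul, Category.assoc, Category.assoc]
  have h2 := h1.comp (c R).inv
  rw [Iso.inv_hom_id_assoc] at h2
  exact h2

end Groth.Agent.Sga3.H828.TorusPt
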